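import Groth.Agent.PnCI.Conormal
import Groth.Agent.VBCurves.DetExact
import Groth.Agent.KTheory.LambdaVb
import Groth.Agent.LocFree.ExtFunctor
import Groth.Agent.Duality.FundLocal.SmoothImm
import Groth.Agent.Duality.SmoothDual
import Groth.Agent.VarietyBC.Dim
import Groth.Agent.AlgSp3.DimFacts
import Groth.Agent.DescentBase.DimEtale
import Groth.Agent.FibreDim.Smooth
import Groth.Agent.FibreDim.DimStalk
import Groth.Agent.CurveDiv.HilbProper

/-!
# Adjunction for complete intersections
-/

set_option linter.style.haveILetI false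
set_option backward.isDefEq.respectTransparency.types false

universe u

open CategoryTheory CategoryTheory.Limits AlgebraicGeometry TopologicalSpace
open Groth.PicAux

attribute [local instance] HasFiniteBiproducts.of_hasFiniteProducts

namespace Groth.PnCI

theorem nonempty_extPow_two_biprod {X : Scheme.{u}} {A B : X.Modules}
    (hA : FlatMod.IsFinLocFreeOfRank 1 A) (hB : FlatMod.IsFinLocFreeOfRank 1 B) :
    Nonempty (Groth.LocFree.extPow 2 (A ⊞ B) ≅ CohB1.tensorMod A B) := by
  let S := ShortComplex.mk (biprod.inl : A ⟶ A ⊞ B) biprod.snd biprod.inl_snd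
  have hS : S.ShortExact := (ShortComplex.Splitting.ofHasBinaryBiproduct A B).shortExact
  have h2 := Groth.LocFree.isFinLocFreeOfRank_biprod hA hB
  obtain ⟨θ, hθ⟩ := VBCurves.DetExact.nonempty_det_iso hS (a := 1) (b := 1) hA
    (Groth.LocFree.isFinLocFree_of_rank h2) hB
  haveI := KTheory.LocFree.isQCoh (Groth.LocFree.isFinLocFree_of_rank hA)
  haveI := KTheory.LocFree.isQCoh (Groth.LocFree.isFinLocFree_of_rank hB)
  obtain ⟨eA⟩ := KTheory.LambdaVb.nonempty_extPow_one A
  obtain ⟨eB⟩ := KTheory.LambdaVb.nonempty_extPow_one B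
  have h1 : FlatMod.IsFinLocFreeOfRank 1
      (CohB1.tensorMod (Groth.LocFree.extPow 1 A) (Groth.LocFree.extPow 1 B)) :=
    Groth.LocFree.isFinLocFreeOfRank_tensorMod (by simpa using Groth.LocFree.isFinLocFreeOfRank_extPow hA 1)
      (by simpa using Groth.LocFree.isFinLocFreeOfRank_extPow hB 1)
  have h3 : FlatMod.IsFinLocFreeOfRank 1 (Groth.LocFree.extPow (1 + 1) (A ⊞ B)) := by
    simpa using Groth.LocFree.isFinLocFreeOfRank_extPow h2 2
  haveI : IsIso θ := Duality.FundLocal.isIso_of_epi_rank_one h1 h3 θ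
  exact ⟨(asIso θ).symm ≪≫ PicGrp.tensorModIso eA eB⟩

/-- Conormal sheaves only depend on the ideal. -/
theorem nonempty_conormal_congr {P X Z : Scheme.{u}} (i : Z ⟶ P) (j : X ⟶ P) (e : X ⟶ Z)
    (he : e ≫ i = j) (h : i.ker = j.ker) :
    Nonempty ((Scheme.Modules.pullback e).obj (Omega.conormal i) ≅ Omega.conormal j) := by
  subst he
  exact ⟨(Scheme.Modules.pullbackComp e i).app _ ≪≫
    (Scheme.Modules.pullback (e ≫ i)).mapIso (eqToIso (congrArg ClSub.idealMod h))⟩

theorem smoothOfRelativeDimension_of_irreducible {k : Type u} [Field k] {X : Scheme.{u}}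
    (f : X ⟶ Spec (CommRingCat.of k)) [Smooth f] [IrreducibleSpace X] {d : ℕ}
    (hdim : topologicalKrullDim X = d) : SmoothOfRelativeDimension d f := by
  let : X.Over (Spec (CommRingCat.of k)) := ⟨f⟩
  haveI hsm : Smooth (X ↘ Spec (CommRingCat.of k)) := inferInstanceAs (Smooth f)
  have hloc : ∀ x : X, FlatMor.localDim X x = d := fun x => by
    refine le_antisymm ((Groth.SpectralTopology.localDim_le_dim x).trans hdim.le) ?_
    rw [Groth.VarietyBC.localDim_eq_height_add k x, ringKrullDim_stalk_eq_coheight,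
      ← WithBot.coe_add, ← hdim, Groth.Variety2.Dim.dim_eq_iSup_height]
    refine iSup_le fun z => WithBot.coe_le_coe.2 ?_
    refine le_trans (Order.height_mono ?_) (Groth.VarietyBC.height_le_add_coheight k (b := x) (η := genericPoint X) ?_)
    · exact Scheme.le_iff_specializes.2 (genericPoint_specializes z)
    · exact Scheme.le_iff_specializes.2 (genericPoint_specializes x)
  have hcov : ∀ x : X, ∃ W : X.Opens, x ∈ W ∧ SmoothOfRelativeDimension d (W.ι ≫ f) := fun x => by
    obtain ⟨n, W, hxW, hn⟩ := Groth.AlgSp3.exists_open_smoothOfRelativeDimension f x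
    haveI := SmoothOfRelativeDimension.smooth n (W.ι ≫ f)
    have e := Groth.FibreDim.localDim_eq_add_of_flat (W.ι ≫ f) n
      (Groth.FibreDim.fibreDimAt_eq_of_smoothOfRelativeDimension n (W.ι ≫ f)) ⟨x, hxW⟩
    rw [Groth.DescentBase.localDim_eq_of_etale W.ι, hloc, Groth.CurveDiv.localDim_spec_field, zero_add] at e
    obtain rfl : n = d := by exact_mod_cast e.symm
    exact ⟨W, hxW, hn⟩
  choose W hW hs using hcov
  exact IsZariskiLocalAtSource.of_iSup_eq_top (P := @SmoothOfRelativeDimension d) W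
    (eq_top_iff.2 fun x _ => Opens.mem_iSup.2 ⟨x, hW x⟩) hs

theorem nonempty_sigma_fin_two {X : Scheme.{u}} (M : Fin 2 → X.Modules) :
    Nonempty ((∐ M) ≅ M 0 ⊞ M 1) :=
  ⟨PnHyper.sigmaSucc M ≪≫ biprod.mapIso (Iso.refl _)
    (coproductUniqueIso (fun i : Fin 1 => M i.succ))⟩

end Groth.PnCI
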