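import Groth.Agent.PnCI.Step
import Groth.Agent.PnHyper.Lift
import Groth.Agent.KoszulLCI.ConormalFree
import Groth.Agent.KoszulLCI.ConormalPullBasis
import Groth.Agent.KoszShLib.SumMap
import Groth.Agent.LocFree.Rank

/-!
# The conormal sheaf of a complete intersection
-/

set_option linter.style.haveILetI false
set_option backward.isDefEq.respectTransparency.types false

universe u

open CategoryTheory CategoryTheory.Limits AlgebraicGeometry TopologicalSpace
open Groth.PicAux

namespace Groth.PnCI

variable {k : Type u} [Field k] {n : ℕ}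

theorem exists_idealMod_incl {X : Scheme.{u}} {J I : X.IdealSheafData} (h : J ≤ I) :
    ∃ φ : ClSub.idealMod J ⟶ ClSub.idealMod I, φ ≫ ClSub.idealModι I = ClSub.idealModι J := by
  refine ⟨kernel.lift _ (ClSub.idealModι J) ?_, kernel.lift_ι _ _ _⟩
  refine KoszShLib.hom_eq_zero_of_small _ fun x W hxW => ?_
  obtain ⟨_, ⟨V, hV, rfl⟩, hxV, hVW⟩ :=
    X.isBasis_affineOpens.exists_subset_of_mem_open (show x ∈ (W : Set X) from hxW) W.2
  refine ⟨V, hxV, hVW, fun m => ?_⟩
  have h'' : I.subschemeι.app V (OmegaSh.idealSect J V m) = 0 :=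
    RingHom.mem_ker.1 ((I.ker_subschemeι_app ⟨V, hV⟩).ge
      (h ⟨V, hV⟩ (Groth.OmegaSheaf.idealSect_mem J ⟨V, hV⟩ m)))
  rw [KoszShLib.comp_app_apply]
  exact h''

theorem idealSect_of_incl {X : Scheme.{u}} {J I : X.IdealSheafData}
    {φ : ClSub.idealMod J ⟶ ClSub.idealMod I} (hφ : φ ≫ ClSub.idealModι I = ClSub.idealModι J)
    (U : X.Opens) (k : Γ(ClSub.idealMod J, U)) :
    OmegaSh.idealSect I U (φ.app U k) = OmegaSh.idealSect J U k := by
  show OmegaSh.fnSect X U ((ClSub.idealModι I).app U (φ.app U k)) =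
    OmegaSh.fnSect X U ((ClSub.idealModι J).app U k)
  rw [← KoszShLib.comp_app_apply, hφ]

theorem isFinLocFreeOfRank_of_basis {X : Scheme.{u}} {M : X.Modules} [M.IsQuasicoherent] {c : ℕ}
    (h : ∀ x : X, ∃ U : X.Opens, IsAffineOpen U ∧ x ∈ U ∧
      Nonempty (Module.Basis (Fin c) Γ(X, U) Γ(M, U))) :
    FlatMod.IsFinLocFreeOfRank c M := by
  have hM : FlatMod.IsFinLocFree M := Groth.LocFree.isFinLocFree_of_affine_cover fun x => by
    obtain ⟨U, hU, hx, ⟨b⟩⟩ := h x
    exact ⟨U, hU, hx, Module.Finite.of_basis b, Module.Projective.of_basis b⟩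
  refine Groth.LocFree.isFinLocFreeOfRank_iff_finrank.2 ⟨hM, fun x => ?_⟩
  obtain ⟨U, hU, hx, ⟨b⟩⟩ := h x
  have := Module.Free.of_basis b
  have : Nontrivial Γ(X, U) := ⟨⟨0, 1, fun e => by
    have h1 := congrArg (X.presheaf.germ U x hx) e
    rw [map_zero, map_one] at h1
    exact zero_ne_one h1⟩⟩
  rw [← Groth.LocFree.rankAtStalk_sections hM hU hx, Module.rankAtStalk_eq_finrank_of_free]
  exact (Module.finrank_eq_card_basis b).trans (Fintype.card_fin c)

/-- The equations form a weakly regular sequence on each chart. -/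
theorem isWeaklyRegular_chart : ∀ (r : ℕ) (a : Fin r → ℕ), (∀ j, 0 < a j) →
    ∀ G : ∀ j, LefPen.Form n k (a j), Good G → ∀ i : Fin (n + 1),
    RingTheory.Sequence.IsWeaklyRegular Γ(CohB1.ProjSpace n k, LefPen.chart n k i)
      (List.ofFn fun j => LefPen.dehom (G j) i) := by
  intro r
  induction r with
  | zero =>
    intro a _ G _ i
    simpa using RingTheory.Sequence.IsWeaklyRegular.nil _ _
  | succ r ih =>
    intro a ha G h i
    rw [List.ofFn_succ', List.concat_eq_append, RingTheory.Sequence.isWeaklyRegular_append_iff]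
    refine ⟨ih (fun j => a j.castSucc) (fun j => ha j.castSucc) (fun j => G j.castSucc)
      (good_init ha h) i, ?_⟩
    rw [RingTheory.Sequence.isWeaklyRegular_cons_iff]
    refine ⟨?_, RingTheory.Sequence.IsWeaklyRegular.nil _ _⟩
    rw [isSMulRegular_quotient_iff_mem_of_smul_mem, smul_eq_mul, Ideal.mul_top]
    intro z hz
    have e : Ideal.ofList (List.ofFn fun j : Fin r => LefPen.dehom (G j.castSucc) i) =
        Ideal.span (Set.range fun j : Fin r => LefPen.dehom (G j.castSucc) i) := by
      rw [Ideal.ofList]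
      congr 1
      ext c
      simp
    rw [e] at hz ⊢
    exact mem_of_mul_mem ha h i z hz

theorem good_forms_ne_zero : ∀ (r : ℕ) (a : Fin r → ℕ), (∀ j, 0 < a j) →
    ∀ G : ∀ j, LefPen.Form n k (a j), Good G → ∀ j, G j ≠ 0 := by
  intro r
  induction r with
  | zero => intro a _ G _ j; exact j.elim0
  | succ r ih =>
    intro a ha G h j
    induction j using Fin.lastCases with
    | last => exact form_ne_zero ha h
    | cast j =>
      exact ih (fun j => a j.castSucc) (fun j => ha j.castSucc) (fun j => G j.castSucc) (good_init ha h) j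

/-- The conormal sheaf of a complete intersection is the sum of the restricted twists. -/
theorem nonempty_conormal {r : ℕ} {a : Fin r → ℕ} (ha : ∀ j, 0 < a j)
    (G : ∀ j, LefPen.Form n k (a j)) (h : Good G) :
    Nonempty (Omega.conormal (LefPen.ciIdeal G).subschemeι ≅
      ∐ fun j : Fin r => (Scheme.Modules.pullback (LefPen.ciIdeal G).subschemeι).obj
        (Twist.twistProjSpace n k (-(a j : ℤ)))) := by
  set ι := (LefPen.ciIdeal G).subschemeι with hι
  have hker : ι.ker = LefPen.ciIdeal G := Scheme.IdealSheafData.ker_subschemeι _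
  have hle : ∀ j, LefPen.hypIdeal (G j) ≤ ι.ker :=
    fun j => (le_iSup (fun j => LefPen.hypIdeal (G j)) j).trans hker.ge
  choose φ hφ using fun j => exists_idealMod_incl (hle j)
  let fam : Fin r → (CohB1.ProjSpace n k).Modules := fun j => ClSub.idealMod (LefPen.hypIdeal (G j))
  let t : ∐ fam ⟶ ClSub.idealMod ι.ker := Sigma.desc φ
  haveI : Epi t := by
    haveI : (ClSub.idealMod ι.ker).IsQuasicoherent := inferInstance
    refine Groth.OmegaSheaf.epi_of_affine_cover _ fun x => ?_
    obtain ⟨i, hi⟩ := exists_mem_chart (k := k) (n := n) x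
    refine ⟨_, (chartAff i).2, hi, fun z => ?_⟩
    have hz := Groth.OmegaSheaf.idealSect_mem ι.ker (chartAff i) z
    have e : ι.ker.ideal (chartAff i) = Ideal.span (Set.range fun j => LefPen.dehom (G j) i) :=
      (congrArg (fun I : (CohB1.ProjSpace n k).IdealSheafData => I.ideal (chartAff i)) hker).trans
        (ideal_ci_chart G i)
    rw [e, Ideal.mem_span_range_iff_exists_fun] at hz
    obtain ⟨c, hc⟩ := hz
    choose m hm using fun j => Groth.OmegaSheaf.exists_idealSect (LefPen.hypIdeal (G j)) (chartAff i)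
      (x := LefPen.dehom (G j) i) (by rw [ideal_hyp_chart]; exact Ideal.mem_span_singleton_self _)
    refine ⟨∑ j, c j • (Sigma.ι fam j).app (chartAff i).1 (m j),
      Groth.OmegaSheaf.idealSect_injective _ _ ?_⟩
    rw [map_sum, map_sum, ← hc]
    refine Finset.sum_congr rfl fun j _ => ?_
    rw [Scheme.Modules.Hom.app_smul, Groth.OmegaSheaf.idealSect_smul, ← KoszShLib.comp_app_apply,
      Sigma.ι_desc, idealSect_of_incl (hφ j), hm]
  haveI : PreservesColimitsOfSize.{0, 0} (Scheme.Modules.pullback ι) :=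
    (Scheme.Modules.pullbackPushforwardAdjunction ι).leftAdjoint_preservesColimits
  have hne := good_forms_ne_zero r a ha G h
  have e := fun j => PlaneCurve.nonempty_idealMod_hypIdeal (hne j)
  let E : (∐ fun j : Fin r => (Scheme.Modules.pullback ι).obj (Twist.twistProjSpace n k (-(a j : ℤ)))) ≅
      (Scheme.Modules.pullback ι).obj (∐ fam) :=
    Sigma.mapIso (fun j => (Scheme.Modules.pullback ι).mapIso (e j).some.symm) ≪≫
      (PreservesCoproduct.iso (Scheme.Modules.pullback ι) fam).symm
  let ψ : _ ⟶ Omega.conormal ι := E.hom ≫ (Scheme.Modules.pullback ι).map t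
  haveI hmt : Epi ((Scheme.Modules.pullback ι).map t) := (Scheme.Modules.pullback ι).map_epi t
  haveI : Epi ψ := @epi_comp _ _ _ _ _ E.hom inferInstance _ hmt
  have hrank : FlatMod.IsFinLocFreeOfRank r (Omega.conormal ι) := by
    refine isFinLocFreeOfRank_of_basis fun y => ?_
    obtain ⟨i, hi⟩ := exists_mem_chart (k := k) (n := n) (ι y)
    have hW : Groth.OmegaSheaf.IsConormalChart ι (LefPen.chart n k i) :=
      ⟨isAffineOpen_chart i, (isAffineOpen_chart i).preimage ι, ι.app_surjective _ (isAffineOpen_chart i)⟩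
    have hk := KoszulLCI.isH1Regular_of_isKoszulRegularSeq
      (Groth.KoszulReg.isKoszulRegularSeq_of_isWeaklyRegular (isWeaklyRegular_chart r a ha G h i))
    have hr := KoszulLCI.cast_transfer (fun c g => CAlgX.IsH1Regular (c := c) g)
      List.length_ofFn.symm _ hk
    have hf : CAlgX.IsH1Regular fun j => LefPen.dehom (G j) i := by
      convert hr using 2 with j
      rw [List.get_ofFn]
      rfl
    obtain ⟨b⟩ := KoszulLCI.nonempty_basis_conormal ι hW _ hf
      (((LefPen.ciIdeal G).ker_subschemeι_app (chartAff i)).trans (ideal_ci_chart G i))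
    exact ⟨ι ⁻¹ᵁ LefPen.chart n k i, hW.affine_preimage, hi, ⟨b⟩⟩
  have hsum := PnHyper.isFinLocFreeOfRank_sigma
    (fun j : Fin r => (Scheme.Modules.pullback ι).obj (Twist.twistProjSpace n k (-(a j : ℤ))))
    fun j => Groth.LocFree.isInvertible_iff_ofRank_one.1
      (isInvertible_pullback _ (Groth.PnCoh.isInvertible_twist n k _))
  haveI : IsIso ψ := PnHyper.isIso_of_epi_rank hsum hrank ψ
  exact ⟨(asIso ψ).symm⟩

end Groth.PnCI
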