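import Groth.Agent.PnCI.Cohomology
import Groth.Agent.PnEuler.Seq
import Groth.Agent.Duality.ClosedDual
import Groth.Agent.PnHyper.Lift

/-!
# Top cohomology of complete intersections
-/

set_option linter.style.haveILetI false
set_option backward.isDefEq.respectTransparency.types false

universe u

open CategoryTheory CategoryTheory.Limits AlgebraicGeometry TopologicalSpace
open Groth.PicAux

attribute [local instance] HasFiniteBiproducts.of_hasFiniteProducts

namespace Groth.PnCI

variable {k : Type u} [Field k] {n : ℕ}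

local notation "ℙ" => CohB1.ProjSpace n k
local notation "O(" d ")" => Twist.twistProjSpace n k d

/-- Top cohomology is right exact. -/
theorem subsingleton_top_of_epi {X : Scheme.{u}} (ι : X ⟶ ℙ) [IsClosedImmersion ι]
    [X.Over (Spec (CommRingCat.of k))] {d : ℕ}
    (hdim : topologicalKrullDim ↥X ≤ (d : WithBot ℕ∞)) {M N : X.Modules} (p : M ⟶ N) [Epi p]
    (hM : Subsingleton (Coh.HH X M d)) : Subsingleton (Coh.HH X N d) := by
  let S := ShortComplex.mk (kernel.ι p) p (kernel.condition p)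
  have hS : S.ShortExact :=
    { exact := ShortComplex.exact_of_f_is_kernel _ (kernelIsKernel p)
      mono_f := inferInstanceAs (Mono (kernel.ι p))
      epi_g := inferInstanceAs (Epi p) }
  have h1 := Duality.Closed.subsingleton_HH_of_lt ι hdim S.X₁ (Nat.lt_succ_self d)
  refine ⟨fun x y => ?_⟩
  obtain ⟨x', rfl⟩ := (EulerDeg.exact_right k hS d x).1 (@Subsingleton.elim _ h1 _ _)
  obtain ⟨y', rfl⟩ := (EulerDeg.exact_right k hS d y).1 (@Subsingleton.elim _ h1 _ _)
  rw [@Subsingleton.elim _ hM x' y']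

theorem nonempty_map_fam {X : Scheme.{u}} (F : (ℙ).Modules ⥤ X.Modules)
    [PreservesColimitsOfSize.{0, 0} F] (fam : Fin (n + 1) → (ℙ).Modules) (M : X.Modules)
    (e : ∀ i, Nonempty (F.obj (fam i) ≅ M)) :
    Nonempty (F.obj (⨁ fam) ≅ ∐ fun _ : Fin (n + 1) => M) :=
  ⟨F.mapIso (biproduct.isoCoproduct fam) ≪≫ PreservesCoproduct.iso F fam ≪≫
    Sigma.mapIso fun i => (e i).some⟩

/-- Vanishing of the top cohomology of `O_X(t)` propagates upwards. -/
theorem subsingleton_top_succ {X : Scheme.{u}} (ι : X ⟶ ℙ) [IsClosedImmersion ι] {d : ℕ}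
    (hdim : topologicalKrullDim ↥X ≤ (d : WithBot ℕ∞)) (t : ℤ)
    (h : Subsingleton (Coh.HH X ((Scheme.Modules.pullback ι).obj O(t)) d)) :
    Subsingleton (Coh.HH X ((Scheme.Modules.pullback ι).obj O(t + 1)) d) := by
  letI : X.Over (Spec (CommRingCat.of k)) := ⟨ι ≫ CohB1.ProjSpace.toSpec n k⟩
  haveI := isEquivalence_tensorRightMod_of_isInvertible (Groth.PnCoh.isInvertible_twist n k (t + 1))
  let F := DCoh.tensorRightMod O(t + 1) ⋙ Scheme.Modules.pullback ι
  haveI : PreservesColimitsOfSize.{0, 0} (Scheme.Modules.pullback ι) :=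
    (Scheme.Modules.pullbackPushforwardAdjunction ι).leftAdjoint_preservesColimits
  haveI : PreservesColimitsOfSize.{0, 0} (DCoh.tensorRightMod O(t + 1)) :=
    (DCoh.tensorRightMod O(t + 1)).asEquivalence.toAdjunction.leftAdjoint_preservesColimits
  haveI : PreservesColimitsOfSize.{0, 0} F := Limits.comp_preservesColimits _ _
  obtain ⟨e1⟩ := Groth.Duality.Pn.nonempty_twist_tensor n k (-1) (t + 1)
  obtain ⟨e0⟩ := Groth.Duality.Pn.nonempty_twist_tensor n k 0 (t + 1)
  obtain ⟨c⟩ := nonempty_map_fam F (fun _ : Fin (n + 1) => O(-1))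
    ((Scheme.Modules.pullback ι).obj O(t)) fun _ =>
      ⟨(Scheme.Modules.pullback ι).mapIso (e1 ≪≫ eqToIso (by rw [neg_add_cancel_comm_assoc]))⟩
  haveI : Epi (PnEuler.eps n k) := (PnEuler.shortExact_eulerSeq (n := n) (R := k)).epi_g
  haveI : Epi (F.map (PnEuler.eps n k)) := F.map_epi _
  let e' : F.obj O(0) ≅ (Scheme.Modules.pullback ι).obj O(t + 1) :=
    (Scheme.Modules.pullback ι).mapIso (e0 ≪≫ eqToIso (by rw [zero_add]))
  exact subsingleton_congr e'.symm d (subsingleton_top_of_epi ι hdim (F.map (PnEuler.eps n k))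
    (subsingleton_congr c d (PnHyper.subsingleton_sigma k d _ fun _ => h)))

theorem dim_le_of_good {r : ℕ} {a : Fin r → ℕ} (ha : ∀ j, 0 < a j)
    (G : ∀ j, LefPen.Form n k (a j)) (h : Good G) :
    topologicalKrullDim ↥(LefPen.ciIdeal G).subscheme ≤ ((n - r : ℕ) : WithBot ℕ∞) := by
  rw [Variety2.Dim.dim_eq_iSup_height]
  refine iSup_le fun z => ?_
  have h1 := Variety2.Dim.height_eq_of_isPreimmersion
    ((LefPen.ciIdeal G).subschemeι ≫ CohB1.ProjSpace.toSpec n k) (CohB1.ProjSpace.toSpec n k)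
    (LefPen.ciIdeal G).subschemeι rfl z
  have hmem : (LefPen.ciIdeal G).subschemeι z ∈ (LefPen.ciIdeal G).support := by
    rw [← SetLike.mem_coe, ← Scheme.IdealSheafData.range_subschemeι]
    exact ⟨z, rfl⟩
  have h2 := h.2 _ ((mem_ci_support_iff ha G).1 hmem)
  obtain ⟨m, hm⟩ := Variety2.PSpace.exists_ht_eq ((LefPen.ciIdeal G).subschemeι z)
  rw [hm] at h2
  have h2 : m + r ≤ n := by exact_mod_cast h2
  have h3 : Order.height z = (m : ℕ∞) := by
    refine Eq.trans ?_ hm
    exact h1.symm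
  rw [h3]
  rw [show ((n - r : ℕ) : WithBot ℕ∞) = (((n - r : ℕ) : ℕ∞) : WithBot ℕ∞) from rfl]
  exact WithBot.coe_le_coe.2 (Nat.cast_le.2 (show m ≤ n - r by omega))

theorem subsingleton_rest_iff {X : Scheme.{u}} (ι : X ⟶ ℙ) [IsClosedImmersion ι] (F : (ℙ).Modules) (q : ℕ) :
    Subsingleton (Coh.HH ℙ (rest ι F) q) ↔
      Subsingleton (Coh.HH X ((Scheme.Modules.pullback ι).obj F) q) := by
  obtain ⟨e⟩ := Groth.CohC3.nonempty_linearEquiv_push_closed ι (CohB1.ProjSpace.toSpec n k) q
    ((Scheme.Modules.pullback ι).obj F)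
  exact e.toEquiv.subsingleton_congr

theorem top_iff_zero (hn : 0 < n) (t : ℤ) :
    Subsingleton (Coh.HH ℙ O(t) n) ↔ -(n : ℤ) - 1 < t := by
  constructor
  · intro h
    by_contra hc
    obtain ⟨m, hm⟩ := Int.le.dest (not_lt.1 hc)
    have h1 := Groth.PnCoh.finrank_hTop (k := k) (r := n) m
    rw [show -((n : ℤ) + 1 + m) = t by omega, EulerDeg.finrank_eq_zero_of_subsingleton h] at h1
    exact (Nat.choose_pos (Nat.le_add_left m n)).ne h1
  · intro h
    exact Groth.PnCoh.subsingleton_HH_twist t n (by omega) (by omega)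

/-- `H^{n-r}(X, O(t))` vanishes exactly for `t > ∑ aⱼ - n - 1`. -/
theorem top_iff : ∀ (r : ℕ) (a : Fin r → ℕ), (∀ j, 0 < a j) →
    ∀ G : ∀ j, LefPen.Form n k (a j), Good G → r < n → ∀ t : ℤ,
      (Subsingleton (Coh.HH ℙ (rest (LefPen.ciIdeal G).subschemeι O(t)) (n - r)) ↔
        (∑ j, (a j : ℤ)) - n - 1 < t) := by
  intro r
  induction r with
  | zero =>
    intro a ha G _ hn t
    have h0 : (LefPen.ciIdeal G) = ⊥ := iSup_of_empty _
    let s := IsClosedImmersion.lift (LefPen.ciIdeal G).subschemeι (𝟙 ℙ)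
      (by rw [Scheme.IdealSheafData.ker_subschemeι, h0]; exact bot_le)
    have hs : s ≫ (LefPen.ciIdeal G).subschemeι = 𝟙 ℙ := IsClosedImmersion.lift_fac _ _ _
    haveI : IsIso (LefPen.ciIdeal G).subschemeι := ⟨s,
      by rw [← cancel_mono (LefPen.ciIdeal G).subschemeι, Category.assoc, hs, Category.comp_id,
        Category.id_comp], hs⟩
    haveI := isIso_unit_of_isIso (LefPen.ciIdeal G).subschemeι O(t)
    let e := asIso ((Scheme.Modules.pullbackPushforwardAdjunction
      (LefPen.ciIdeal G).subschemeι).unit.app O(t))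
    rw [Finset.univ_eq_empty, Finset.sum_empty, zero_sub, Nat.sub_zero, ← top_iff_zero (k := k) hn t]
    exact ⟨fun h => subsingleton_congr e n h, fun h => subsingleton_congr e.symm n h⟩
  | succ r ih =>
    intro a ha G h hn t
    have ha' : ∀ j : Fin r, 0 < a j.castSucc := fun j => ha j.castSucc
    have hG := good_init ha h
    have ih' := ih (fun j => a j.castSucc) ha' (fun j => G j.castSucc) hG (by omega)
    have hv := (main r (fun j => a j.castSucc) ha' (fun j => G j.castSucc) hG).1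
    rw [Fin.sum_univ_castSucc]
    set σ : ℤ := ∑ j : Fin r, (a j.castSucc : ℤ)
    have hq : n - r = n - (r + 1) + 1 := by omega
    have hlast := ha (Fin.last r)
    constructor
    · intro hX
      by_contra hc
      have hdim := dim_le_of_good ha G h
      have hup : ∀ m : ℕ, Subsingleton (Coh.HH ℙ (rest (LefPen.ciIdeal G).subschemeι O(t + m))
          (n - (r + 1))) := by
        intro m
        induction m with
        | zero => simpa using hX
        | succ m ihm =>
          rw [subsingleton_rest_iff] at ihm ⊢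
          rw [show t + ((m + 1 : ℕ) : ℤ) = t + m + 1 by push_cast; ring]
          exact subsingleton_top_succ _ hdim _ ihm
      obtain ⟨m, hm⟩ := Int.le.dest (not_lt.1 hc)
      obtain ⟨S, hS, ⟨e1⟩, ⟨e2⟩, ⟨e3⟩⟩ := exists_cutSeq ha h (t + m)
      have h3 := subsingleton_congr e3 _ (hup m)
      have h2 := subsingleton_congr e2 _ ((ih' (t + m)).2 (by omega))
      rw [hq] at h2
      have h1 : Subsingleton (Coh.HH ℙ S.X₁ (n - (r + 1) + 1)) := ⟨fun x y => by
        obtain ⟨x', rfl⟩ := (EulerDeg.exact_left k hS (n - (r + 1)) x).1 (@Subsingleton.elim _ h2 _ _)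
        obtain ⟨y', rfl⟩ := (EulerDeg.exact_left k hS (n - (r + 1)) y).1 (@Subsingleton.elim _ h2 _ _)
        rw [@Subsingleton.elim _ h3 x' y']⟩
      rw [← hq] at h1
      have := (ih' (t + m - (a (Fin.last r) : ℤ))).1 (subsingleton_congr e1.symm _ h1)
      omega
    · intro ht
      obtain ⟨S, hS, ⟨e1⟩, ⟨e2⟩, ⟨e3⟩⟩ := exists_cutSeq ha h t
      have h2 := subsingleton_congr e2 _ (hv t (n - (r + 1)) (by omega) (by omega))
      have h1 := subsingleton_congr e1 _ ((ih' (t - (a (Fin.last r) : ℤ))).2 (by omega))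
      rw [hq] at h1
      refine subsingleton_congr e3.symm _ ⟨fun x y => ?_⟩
      obtain ⟨x', rfl⟩ := (EulerDeg.exact_right k hS _ x).1 (@Subsingleton.elim _ h1 _ _)
      obtain ⟨y', rfl⟩ := (EulerDeg.exact_right k hS _ y).1 (@Subsingleton.elim _ h1 _ _)
      rw [@Subsingleton.elim _ h2 x' y']

end Groth.PnCI
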