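import Groth.Agent.PnCI.Step
import Groth.Agent.PnHyper.Lift
import Groth.Agent.VBCurves.Split
import Groth.Agent.CohC3.ProperSupport
import Groth.Agent.EulerDeg.Basic

/-!
# Cohomology of complete intersections in projective space
-/

set_option linter.style.haveILetI false
set_option backward.isDefEq.respectTransparency.types false

universe u

open CategoryTheory CategoryTheory.Limits AlgebraicGeometry TopologicalSpace
open Groth.PicAux

namespace Groth.PnCI

variable {k : Type u} [Field k]

/-- Push forward of the restriction along a morphism. -/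
noncomputable abbrev rest {X Z : Scheme.{u}} (i : Z ⟶ X) (F : X.Modules) : X.Modules :=
  (Scheme.Modules.pushforward i).obj ((Scheme.Modules.pullback i).obj F)

theorem isIso_unit_of_isIso {X Y : Scheme.{u}} (e : Y ⟶ X) [IsIso e] (M : X.Modules) :
    IsIso ((Scheme.Modules.pullbackPushforwardAdjunction e).unit.app M) := by
  haveI : (Scheme.Modules.pullback e).IsEquivalence := PnHyper.isEquivalence_pullback e
  haveI := (Scheme.Modules.pullbackPushforwardAdjunction e).isEquivalence_right_of_isEquivalence_left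
  infer_instance

theorem nonempty_rest_comp {X Y Z : Scheme.{u}} (j : Z ⟶ Y) (i : Y ⟶ X) (F : X.Modules) :
    Nonempty ((Scheme.Modules.pushforward i).obj (rest j ((Scheme.Modules.pullback i).obj F)) ≅
      rest (j ≫ i) F) :=
  ⟨(Scheme.Modules.pushforwardComp j i).app _ ≪≫
    (Scheme.Modules.pushforward (j ≫ i)).mapIso ((Scheme.Modules.pullbackComp j i).app F)⟩

theorem nonempty_rest_congr {X Z W : Scheme.{u}} (i : Z ⟶ X) (i' : W ⟶ X) [IsClosedImmersion i]
    [IsClosedImmersion i'] (h : i.ker = i'.ker) (F : X.Modules) :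
    Nonempty (rest i F ≅ rest i' F) := by
  let e := IsClosedImmersion.lift i' i h.ge
  have he : e ≫ i' = i := IsClosedImmersion.lift_fac i' i h.ge
  let e' := IsClosedImmersion.lift i i' h.le
  have he' : e' ≫ i = i' := IsClosedImmersion.lift_fac i i' h.le
  haveI : IsIso e := ⟨e',
    by rw [← cancel_mono i, Category.assoc, he', he, Category.id_comp],
    by rw [← cancel_mono i', Category.assoc, he, he', Category.id_comp]⟩
  haveI := isIso_unit_of_isIso e ((Scheme.Modules.pullback i').obj F)
  obtain ⟨c⟩ := nonempty_rest_comp e i' F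
  exact ⟨eqToIso (by rw [he]) ≪≫ c.symm ≪≫ (Scheme.Modules.pushforward i').mapIso
    (asIso ((Scheme.Modules.pullbackPushforwardAdjunction e).unit.app _)).symm⟩

variable {n : ℕ}

local notation "ℙ" => CohB1.ProjSpace n k
local notation "O(" d ")" => Twist.twistProjSpace n k d

theorem subsingleton_congr {X : Scheme.{u}} {M N : X.Modules} (e : M ≅ N) (p : ℕ)
    (h : Subsingleton (Coh.HH X N p)) : Subsingleton (Coh.HH X M p) :=
  Function.Injective.subsingleton (f := Sheaf.H.map (EulerDeg.abMap e.hom) p) fun a b hab => by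
    have := congrArg (Sheaf.H.map (EulerDeg.abMap e.inv) p) hab
    simpa only [← Sheaf.H.map_comp_apply, ← EulerDeg.abMap_comp, e.hom_inv_id, EulerDeg.abMap_id,
      Sheaf.H.map_id_apply] using this

theorem bijective_app_of_isIso {X : Scheme.{u}} {M N : X.Modules} (f : M ⟶ N) [IsIso f] :
    Function.Bijective (f.app ⊤) :=
  ConcreteCategory.bijective_of_isIso ((Scheme.Modules.toPresheaf X).map f |>.app (.op ⊤))

/-- The sequence cutting `V(G₀, …, G_{r-1})` by `G_r`. -/
theorem exists_cutSeq {r : ℕ} {a : Fin (r + 1) → ℕ} (ha : ∀ j, 0 < a j)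
    {G : ∀ j, LefPen.Form n k (a j)} (h : Good G) (t : ℤ) :
    ∃ S : ShortComplex (ℙ).Modules, S.ShortExact ∧
      Nonempty (S.X₁ ≅ rest (LefPen.ciIdeal fun j : Fin r => G j.castSucc).subschemeι
        O(t - (a (Fin.last r) : ℤ))) ∧
      Nonempty (S.X₂ ≅ rest (LefPen.ciIdeal fun j : Fin r => G j.castSucc).subschemeι O(t)) ∧
      Nonempty (S.X₃ ≅ rest (LefPen.ciIdeal G).subschemeι O(t)) := by
  set ι := (LefPen.ciIdeal fun j : Fin r => G j.castSucc).subschemeι
  set J := (LefPen.hypIdeal (G (Fin.last r))).comap ι with hJ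
  have hF : FlatMod.IsFinLocFree ((Scheme.Modules.pullback ι).obj O(t)) :=
    Groth.LocFree.isFinLocFree_of_rank (Groth.LocFree.isInvertible_iff_ofRank_one.1
      (isInvertible_pullback _ (Groth.PnCoh.isInvertible_twist n k t)))
  obtain ⟨S, hS, ⟨e1⟩, ⟨e2⟩, ⟨e3⟩⟩ := PnHyper.exists_subschemeSeq J hF
  obtain ⟨eI⟩ := nonempty_idealMod_step ha h
  obtain ⟨et⟩ := Groth.Duality.Pn.nonempty_twist_tensor n k (-(a (Fin.last r) : ℤ)) t
  obtain ⟨ep, -⟩ := exists_pullback_tensorMod ι O(-(a (Fin.last r) : ℤ)) O(t)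
  obtain ⟨c⟩ := nonempty_rest_comp J.subschemeι ι O(t)
  obtain ⟨c'⟩ := nonempty_rest_congr (J.subschemeι ≫ ι) (LefPen.ciIdeal G).subschemeι
    ((ker_step (G := G)).trans (Scheme.IdealSheafData.ker_subschemeι _).symm) O(t)
  refine ⟨S.map (Scheme.Modules.pushforward ι), CohC3.shortExact_push_closed ι hS, ⟨?_⟩,
    ⟨(Scheme.Modules.pushforward ι).mapIso e2⟩,
    ⟨(Scheme.Modules.pushforward ι).mapIso e3 ≪≫ c ≪≫ c'⟩⟩
  exact (Scheme.Modules.pushforward ι).mapIso (e1 ≪≫ PicGrp.tensorModIso eI (Iso.refl _) ≪≫ ep.symm ≪≫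
    (Scheme.Modules.pullback ι).mapIso (et ≪≫ eqToIso (by rw [sub_eq_neg_add])))

/-- Intermediate cohomology of complete intersections vanishes, and forms restrict surjectively. -/
theorem main : ∀ (r : ℕ) (a : Fin r → ℕ), (∀ j, 0 < a j) →
    ∀ G : ∀ j, LefPen.Form n k (a j), Good G →
    (∀ (t : ℤ) (p : ℕ), 0 < p → p < n - r →
      Subsingleton (Coh.HH ℙ (rest (LefPen.ciIdeal G).subschemeι O(t)) p)) ∧
    (1 ≤ n - r → ∀ t : ℤ, ∃ g : O(t) ⟶ rest (LefPen.ciIdeal G).subschemeι O(t),
      Epi g ∧ Function.Surjective (g.app ⊤)) := by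
  intro r
  induction r with
  | zero =>
    intro a ha G _
    have h0 : (LefPen.ciIdeal G) = ⊥ := iSup_of_empty _
    let s := IsClosedImmersion.lift (LefPen.ciIdeal G).subschemeι (𝟙 ℙ)
      (by rw [Scheme.IdealSheafData.ker_subschemeι, h0]; exact bot_le)
    have hs : s ≫ (LefPen.ciIdeal G).subschemeι = 𝟙 ℙ := IsClosedImmersion.lift_fac _ _ _
    haveI : IsIso (LefPen.ciIdeal G).subschemeι := ⟨s,
      by rw [← cancel_mono (LefPen.ciIdeal G).subschemeι, Category.assoc, hs, Category.comp_id,
        Category.id_comp], hs⟩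
    refine ⟨fun t p hp hpn => ?_, fun _ t => ⟨(Scheme.Modules.pullbackPushforwardAdjunction
      (LefPen.ciIdeal G).subschemeι).unit.app O(t), ?_, ?_⟩⟩
    · haveI := isIso_unit_of_isIso (LefPen.ciIdeal G).subschemeι O(t)
      exact subsingleton_congr (asIso ((Scheme.Modules.pullbackPushforwardAdjunction
        (LefPen.ciIdeal G).subschemeι).unit.app O(t))).symm p
        (Groth.PnCoh.subsingleton_HH_twist t p (by omega) (by omega))
    · haveI := isIso_unit_of_isIso (LefPen.ciIdeal G).subschemeι O(t)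
      infer_instance
    · haveI := isIso_unit_of_isIso (LefPen.ciIdeal G).subschemeι O(t)
      exact (bijective_app_of_isIso _).2
  | succ r ih =>
    intro a ha G h
    obtain ⟨hv, hg⟩ := ih (fun j => a j.castSucc) (fun j => ha j.castSucc)
      (fun j => G j.castSucc) (good_init ha h)
    refine ⟨fun t p hp hpn => ?_, fun h1 t => ?_⟩
    · obtain ⟨S, hS, ⟨e1⟩, ⟨e2⟩, ⟨e3⟩⟩ := exists_cutSeq ha h t
      have h2 := subsingleton_congr e2 p (hv t p hp (by omega))
      have h1 := subsingleton_congr e1 (p + 1)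
        (hv (t - (a (Fin.last r) : ℤ)) (p + 1) (by omega) (by omega))
      refine subsingleton_congr e3.symm p ⟨fun x y => ?_⟩
      obtain ⟨x', rfl⟩ := (EulerDeg.exact_right k hS p x).1 (@Subsingleton.elim _ h1 _ _)
      obtain ⟨y', rfl⟩ := (EulerDeg.exact_right k hS p y).1 (@Subsingleton.elim _ h1 _ _)
      rw [@Subsingleton.elim _ h2 x' y']
    · obtain ⟨S, hS, ⟨e1⟩, ⟨e2⟩, ⟨e3⟩⟩ := exists_cutSeq ha h t
      obtain ⟨g, hge, hgs⟩ := hg (by omega) t
      haveI := hS.epi_g
      refine ⟨g ≫ e2.inv ≫ S.g ≫ e3.hom, inferInstance, ?_⟩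
      have hSg := VBCurves.surjective_app_top k hS (subsingleton_congr e1 1
        (hv (t - (a (Fin.last r) : ℤ)) 1 one_pos (by omega)))
      exact (bijective_app_of_isIso e3.hom).2.comp
        (hSg.comp ((bijective_app_of_isIso e2.inv).2.comp hgs))

/-- If some epimorphism onto the restriction of an invertible module is surjective on global
sections, so is the unit. -/
theorem surjective_unit {X Z : Scheme.{u}} (i : Z ⟶ X) [IsClosedImmersion i] {L : X.Modules}
    (hL : PicF.IsInvertible L) (g : L ⟶ rest i L) [Epi g] (hg : Function.Surjective (g.app ⊤)) :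
    Function.Surjective (((Scheme.Modules.pullbackPushforwardAdjunction i).unit.app L).app ⊤) := by
  let A := Scheme.Modules.pullbackPushforwardAdjunction i
  let h := (A.homEquiv _ _).symm g
  haveI : PreservesColimitsOfSize.{0, 0} (Scheme.Modules.pullback i) := A.leftAdjoint_preservesColimits
  haveI : Epi ((Scheme.Modules.pullback i).map g) := (Scheme.Modules.pullback i).map_epi g
  haveI : Epi h := by
    change Epi ((A.homEquiv _ _).symm g)
    rw [Adjunction.homEquiv_counit]
    infer_instance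
  have hr := Groth.LocFree.isInvertible_iff_ofRank_one.1 (isInvertible_pullback i hL)
  haveI : IsIso h := PnHyper.isIso_of_epi_rank hr hr h
  have hf : g = A.unit.app L ≫ (Scheme.Modules.pushforward i).map h := by
    exact ((A.homEquiv _ _).apply_symm_apply g).symm.trans (Adjunction.homEquiv_unit _ _ _ _)
  rw [hf] at hg
  intro y
  obtain ⟨x, hx⟩ := hg (((Scheme.Modules.pushforward i).map h).app ⊤ y)
  exact ⟨x, (bijective_app_of_isIso ((Scheme.Modules.pushforward i).map h)).1 hx⟩

end Groth.PnCI
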