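import Groth.Agent.PnHodge.Dim
import Groth.Agent.PicAux.EffCartierLine
import Groth.Agent.Duality.PnStalk
import Groth.Agent.PlaneCurve.HypIdeal
import Groth.Agent.PlaneCurve.Cohomology
import Groth.Agent.PnCI.Top

/-!
# Cohomology of twists of the structure sheaf of a hypersurface
-/

set_option linter.style.haveILetI false
set_option backward.isDefEq.respectTransparency.types false

universe u

open CategoryTheory CategoryTheory.Limits AlgebraicGeometry
open Groth.PicAux Groth.EulerDeg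

namespace Groth.PnCI.HypTwist

variable {F : Type u} [Field F] {N : ℕ}

local notation "ℙ" => CohB1.ProjSpace N F
local notation "O(" d ")" => Twist.twistProjSpace N F d

theorem finrank_h0 (hN : 1 ≤ N) (m : ℤ) :
    Module.finrank F (Coh.HH ℙ O(m) 0) = (m + (N : ℤ)).toNat.choose N := by
  by_cases h : 0 ≤ m
  · rw [PnHodge.finrank_h0_twist, if_pos h]
    congr 1
    omega
  · rw [finrank_eq_zero_of_subsingleton (PnCoh.subsingleton_HH_twist m 0 (by omega) (by omega)),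
      Nat.choose_eq_zero_of_lt (by omega)]

theorem finrank_top (hN : 1 ≤ N) (m : ℤ) :
    Module.finrank F (Coh.HH ℙ O(m) N) = (-m - 1).toNat.choose N := by
  by_cases h : m ≤ -1
  · obtain ⟨j, rfl⟩ : ∃ j : ℕ, m = -(j : ℤ) - 1 := ⟨(-m - 1).toNat, by omega⟩
    rw [PnHodge.finrank_hTop_twist]
    congr 1
    omega
  · rw [finrank_eq_zero_of_subsingleton (PnCoh.subsingleton_HH_twist m N (by omega) (by omega)),
      Nat.choose_eq_zero_of_lt (by omega)]

/-- `0 → O(n - k) → O(n) → O_X(n) → 0`. -/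
theorem exists_seq {k : ℕ} (I : (ℙ).IdealSheafData)
    (hI : Nonempty (ClSub.idealMod I ≅ O(-(k : ℤ)))) (n : ℤ) :
    ∃ S : ShortComplex (ℙ).Modules, S.ShortExact ∧ Nonempty (S.X₁ ≅ O(n - (k : ℤ))) ∧
      Nonempty (S.X₂ ≅ O(n)) ∧ Nonempty (S.X₃ ≅ CohB1.tensorMod (ClSub.quotMod I) O(n)) := by
  obtain ⟨e⟩ := hI
  obtain ⟨t⟩ := Groth.Duality.Pn.nonempty_twist_tensor N F (-(k : ℤ)) n
  obtain ⟨l, -⟩ := exists_leftUnitor O(n)
  exact ⟨_, shortExact_idealMod_twist I (PlaneCurve.isInvertible_twistProjSpace n),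
    ⟨PicGrp.tensorModIso e (Iso.refl _) ≪≫ t ≪≫ eqToIso (by rw [neg_add_eq_sub])⟩, ⟨l⟩, ⟨Iso.refl _⟩⟩

theorem subsingleton_right {S : ShortComplex (ℙ).Modules} (hS : S.ShortExact) (p : ℕ)
    (h1 : Subsingleton (Coh.HH ℙ S.X₁ (p + 1))) (h2 : Subsingleton (Coh.HH ℙ S.X₂ p)) :
    Subsingleton (Coh.HH ℙ S.X₃ p) :=
  ⟨fun x y => by
    obtain ⟨x', rfl⟩ := (exact_right F hS p x).1 (@Subsingleton.elim _ h1 _ _)
    obtain ⟨y', rfl⟩ := (exact_right F hS p y).1 (@Subsingleton.elim _ h1 _ _)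
    rw [@Subsingleton.elim _ h2 x' y']⟩

theorem dim_le {k : ℕ} (I : (ℙ).IdealSheafData) (hI : Nonempty (ClSub.idealMod I ≅ O(-(k : ℤ)))) :
    topologicalKrullDim ↥I.subscheme ≤ ((N - 1 : ℕ) : WithBot ℕ∞) := by
  have hinv : PicF.IsInvertible (ClSub.idealMod I) :=
    Groth.PicAux.isInvertible_of_iso (PlaneCurve.isInvertible_twistProjSpace _) hI.some.symm
  have hC := isEffCartierIdeal_of_isInvertible hinv
  rw [Variety2.Dim.dim_eq_iSup_height]
  refine iSup_le fun z => ?_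
  have h1 := Variety2.Dim.height_eq_of_isPreimmersion (I.subschemeι ≫ CohB1.ProjSpace.toSpec N F)
    (CohB1.ProjSpace.toSpec N F) I.subschemeι rfl z
  have hz : I.subschemeι z ∈ I.support := by
    rw [← SetLike.mem_coe, ← Scheme.IdealSheafData.range_subschemeι]
    exact ⟨z, rfl⟩
  have hne : (I.subschemeι z : ProjectiveSpectrum (CohB1.polyGrading N F)) ≠ Variety2.PSpace.eta N F := by
    intro h
    refine Divisors.not_mem_support_of_maximal hC (x := I.subschemeι z) (fun y hy => ?_) hz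
    by_contra hne
    have h3 : y ⤳ (Variety2.PSpace.eta N F : ↥(CohB1.ProjSpace N F)) := h ▸ hy
    exact hne ((hy.antisymm ((Specializes.trans (by rw [h])
      (Variety2.PSpace.eta_specializes y)))).eq)
  have h2 := Variety2.PSpace.ht_lt (Variety2.PSpace.eta_specializes (I.subschemeι z)) hne
  rw [Variety2.PSpace.ht_eta] at h2
  obtain ⟨m, hm⟩ := Variety2.PSpace.exists_ht_eq (I.subschemeι z)
  rw [hm] at h2
  have h2 : m < N := by exact_mod_cast h2
  have h3 : Order.height z = (m : ℕ∞) := h1.symm.trans hm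
  rw [h3, show ((N - 1 : ℕ) : WithBot ℕ∞) = (((N - 1 : ℕ) : ℕ∞) : WithBot ℕ∞) from rfl]
  exact WithBot.coe_le_coe.2 (Nat.cast_le.2 (by omega))

theorem subsingleton_top {k : ℕ} (I : (ℙ).IdealSheafData)
    (hI : Nonempty (ClSub.idealMod I ≅ O(-(k : ℤ)))) (n : ℤ) (hN : 1 ≤ N) :
    Subsingleton (Coh.HH ℙ (CohB1.tensorMod (ClSub.quotMod I) O(n)) N) := by
  have hL : PicF.IsInvertible O(n) := PlaneCurve.isInvertible_twistProjSpace n
  obtain ⟨π, -⟩ := Groth.PnCoh.exists_projectionFormula I.subschemeι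
    (Coh.structureModule I.subscheme) hL
  obtain ⟨l, -⟩ := exists_leftUnitor ((Scheme.Modules.pullback I.subschemeι).obj O(n))
  refine PnCI.subsingleton_congr (π ≪≫ (Scheme.Modules.pushforward _).mapIso l) N ?_
  exact (PnCI.subsingleton_rest_iff I.subschemeι O(n) N).2
    (Duality.Closed.subsingleton_HH_of_lt I.subschemeι (dim_le I hI) _ (by omega))

theorem subsingleton_twisted {k : ℕ} (I : (ℙ).IdealSheafData)
    (hI : Nonempty (ClSub.idealMod I ≅ O(-(k : ℤ)))) (n : ℤ) {p : ℕ} (hp : p ≠ 0) (hpd : p + 1 ≠ N) :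
    Subsingleton (Coh.HH ℙ (CohB1.tensorMod (ClSub.quotMod I) O(n)) p) := by
  obtain ⟨S, hS, ⟨e1⟩, ⟨e2⟩, ⟨e3⟩⟩ := exists_seq I hI n
  by_cases hpN : p = N
  · subst hpN
    exact subsingleton_top I hI n (by omega)
  · haveI : Subsingleton (Coh.HH ℙ S.X₁ (p + 1)) :=
      haveI := Groth.PnCoh.subsingleton_HH_twist (n := N) (R := F) (n - k) (p + 1) (by omega) (by omega)
      (hEquiv F e1 (p + 1)).toEquiv.subsingleton
    haveI : Subsingleton (Coh.HH ℙ S.X₂ p) :=
      haveI := Groth.PnCoh.subsingleton_HH_twist (n := N) (R := F) n p (by omega) (by omega)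
      (hEquiv F e2 p).toEquiv.subsingleton
    haveI := subsingleton_right hS p ‹_› ‹_›
    exact (hEquiv F e3.symm p).toEquiv.subsingleton

theorem finite_right {k : ℕ} (I : (ℙ).IdealSheafData)
    (hI : Nonempty (ClSub.idealMod I ≅ O(-(k : ℤ)))) (n : ℤ) (q : ℕ) :
    Module.Finite F (Coh.HH ℙ (CohB1.tensorMod (ClSub.quotMod I) O(n)) q) := by
  obtain ⟨S, hS, ⟨e1⟩, ⟨e2⟩, ⟨e3⟩⟩ := exists_seq I hI n
  haveI := PnHodge.finite_twist N F (n - k) (q + 1)
  haveI := PnHodge.finite_twist N F n q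
  haveI := Module.Finite.equiv (hEquiv F e2.symm q)
  haveI := Module.Finite.equiv (hEquiv F e1.symm (q + 1))
  haveI : Module.Finite F (Coh.HH ℙ S.X₃ q) :=
    @finite_of_exact _ _ _ _ _ _ _ _ _ _ _ (inferInstance : Module.Finite F (Coh.HH ℙ S.X₂ q))
      (inferInstance : Module.Finite F (Coh.HH ℙ S.X₁ (q + 1))) _ _ (exact_right F hS q)
  exact Module.Finite.equiv (hEquiv F e3 q)

theorem finrank_h0_right (hN : 2 ≤ N) {k : ℕ} (I : (ℙ).IdealSheafData)
    (hI : Nonempty (ClSub.idealMod I ≅ O(-(k : ℤ)))) (n : ℤ) :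
    Module.finrank F (Coh.HH ℙ (CohB1.tensorMod (ClSub.quotMod I) O(n)) 0) =
      (n + (N : ℤ)).toNat.choose N - (n - (k : ℤ) + (N : ℤ)).toNat.choose N := by
  obtain ⟨S, hS, ⟨e1⟩, ⟨e2⟩, ⟨e3⟩⟩ := exists_seq I hI n
  haveI := PnHodge.finite_twist N F n 0
  haveI hB := Module.Finite.equiv (hEquiv F e2.symm 0)
  haveI : Subsingleton (Coh.HH ℙ S.X₁ (0 + 1)) :=
    PnCI.subsingleton_congr e1 _ (Groth.PnCoh.subsingleton_HH_twist _ _ (by omega) (by omega))
  have h : Module.finrank F (Coh.HH ℙ S.X₂ 0) =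
      Module.finrank F (Coh.HH ℙ S.X₁ 0) + Module.finrank F (Coh.HH ℙ S.X₃ 0) :=
    PnHodge.finrank_mid_eq F hB (hMap F S.f 0) (hMap F S.g 0) (injective_zero F hS) (exact_mid F hS 0)
      (fun x => (exact_right F hS 0 x).1 (Subsingleton.elim _ _))
  rw [finrank_congr e1 0, finrank_congr e2 0, finrank_congr e3 0, finrank_h0 (by omega),
    finrank_h0 (by omega)] at h
  rw [h, Nat.add_sub_cancel_left]

theorem finrank_top_right (hN : 2 ≤ N) {k : ℕ} (I : (ℙ).IdealSheafData)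
    (hI : Nonempty (ClSub.idealMod I ≅ O(-(k : ℤ)))) (n : ℤ) :
    Module.finrank F (Coh.HH ℙ (CohB1.tensorMod (ClSub.quotMod I) O(n)) (N - 1)) =
      ((k : ℤ) - n - 1).toNat.choose N - (-n - 1).toNat.choose N := by
  obtain ⟨M, rfl⟩ : ∃ M, N = M + 1 := ⟨N - 1, by omega⟩
  obtain ⟨S, hS, ⟨e1⟩, ⟨e2⟩, ⟨e3⟩⟩ := exists_seq I hI n
  haveI := PnHodge.finite_twist (M + 1) F (n - k) (M + 1)
  haveI hA := Module.Finite.equiv (hEquiv F e1.symm (M + 1))
  haveI hM : Subsingleton (Coh.HH (CohB1.ProjSpace (M + 1) F) S.X₂ M) :=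
    PnCI.subsingleton_congr e2 _ (Groth.PnCoh.subsingleton_HH_twist _ _ (by omega) (by omega))
  haveI h3 : Subsingleton (Coh.HH (CohB1.ProjSpace (M + 1) F) S.X₃ (M + 1)) :=
    PnCI.subsingleton_congr e3 _ (subsingleton_top I hI n (by omega))
  have h : Module.finrank F (Coh.HH (CohB1.ProjSpace (M + 1) F) S.X₁ (M + 1)) =
      Module.finrank F (Coh.HH (CohB1.ProjSpace (M + 1) F) S.X₃ M) +
        Module.finrank F (Coh.HH (CohB1.ProjSpace (M + 1) F) S.X₂ (M + 1)) := by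
    refine PnHodge.finrank_mid_eq F hA (hDelta F hS M) (hMap F S.f (M + 1)) ?_ (exact_left F hS M) ?_
    · refine (injective_iff_map_eq_zero _).2 fun x hx => ?_
      obtain ⟨z, rfl⟩ := (exact_right F hS M x).1 hx
      rw [Subsingleton.elim z 0, map_zero]
    · exact fun x => (exact_mid F hS (M + 1) x).1 (Subsingleton.elim _ _)
  rw [finrank_congr e1, finrank_congr e2, finrank_congr e3, finrank_top (by omega),
    finrank_top (by omega)] at h
  rw [Nat.add_sub_cancel]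
  rw [show -(n - (k : ℤ)) - 1 = (k : ℤ) - n - 1 by ring] at h
  omega

end Groth.PnCI.HypTwist
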