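import Groth.Agent.PnCI.Top
import Groth.Agent.PnCI.Conormal
import Groth.Agent.LocFree.AffineHom
import Groth.Agent.OmegaSheaf.ExactLocal
import Groth.Agent.QCohMod.QCQS
import Groth.Agent.PnCoh.ProjectionFormula
import Groth.Agent.SGA7.Forms

/-!
# Cohomology of twisted ideals of complete intersections; residual sequences; linear subspaces
-/

set_option linter.style.haveILetI false
set_option backward.isDefEq.respectTransparency.types false

universe u

open CategoryTheory CategoryTheory.Limits AlgebraicGeometry TopologicalSpace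
open Groth.PicAux

namespace Groth.PnCI

section Residual

variable {X : Scheme.{u}} (I J : X.IdealSheafData)

/-- The trace of `J` on `V(I)`, as a module on `X`. -/
noncomputable abbrev trace : X.Modules :=
  (Scheme.Modules.pushforward I.subschemeι).obj (ClSub.idealMod (J.comap I.subschemeι))

theorem exists_hom_to_push {Z : Scheme.{u}} (f : Z ⟶ X) (J : X.IdealSheafData) (J' : Z.IdealSheafData)
    (b : ∀ (U : X.Opens), IsAffineOpen U → Γ(ClSub.idealMod J, U) → Γ(ClSub.idealMod J', f ⁻¹ᵁ U))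
    (hb : ∀ U hU a, OmegaSh.idealSect J' (f ⁻¹ᵁ U) (b U hU a) = f.app U (OmegaSh.idealSect J U a)) :
    ∃ φ : ClSub.idealMod J ⟶ (Scheme.Modules.pushforward f).obj (ClSub.idealMod J'),
      ∀ (U : X.affineOpens) (a : Γ(ClSub.idealMod J, U.1)),
        OmegaSh.idealSect J' (f ⁻¹ᵁ U.1) (φ.app U.1 a) = f.app U.1 (OmegaSh.idealSect J U.1 a) := by
  have hadd : ∀ U hU a a', b U hU (a + a') = b U hU a + b U hU a' := fun U hU a a' => by
    refine Groth.OmegaSheaf.idealSect_injective J' (f ⁻¹ᵁ U) ?_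
    rw [hb, map_add, map_add, map_add, hb, hb]
  have hsmul : ∀ U hU (r : Γ(X, U)) a, b U hU (r • a) = f.app U r • b U hU a := fun U hU r a => by
    refine Groth.OmegaSheaf.idealSect_injective J' (f ⁻¹ᵁ U) ?_
    rw [hb, Groth.OmegaSheaf.idealSect_smul, Groth.OmegaSheaf.idealSect_smul, map_mul, hb]
  have hres : ∀ (U V : X.Opens) (hU : IsAffineOpen U) (hV : IsAffineOpen V) (h : V ≤ U) a,
      (ClSub.idealMod J').presheaf.map (homOfLE (f.preimage_mono h)).op (b U hU a) =
        b V hV ((ClSub.idealMod J).presheaf.map (homOfLE h).op a) := fun U V hU hV h a => by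
    refine Groth.OmegaSheaf.idealSect_injective J' (f ⁻¹ᵁ V) ?_
    rw [Groth.OmegaSheaf.idealSect_res, hb, hb, Groth.OmegaSheaf.idealSect_res]
    exact congr($((f.naturality (homOfLE h).op).symm) (OmegaSh.idealSect J U a))
  obtain ⟨φ, hφ⟩ := Groth.LocFree.exists_hom_of_affine (L := ClSub.idealMod J)
    (M := (Scheme.Modules.pushforward f).obj (ClSub.idealMod J'))
    (fun U hU => { toFun := b U hU, map_add' := hadd U hU, map_smul' := hsmul U hU })
    (fun U V hU hV h a => hres U V hU hV h a)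
  refine ⟨φ, fun U a => ?_⟩
  rw [hφ U.1 U.2 a]
  exact hb U.1 U.2 a

/-- The restriction map from an ideal to its trace. -/
theorem exists_resMap : ∃ φ : ClSub.idealMod J ⟶ trace I J,
    ∀ (U : X.affineOpens) (a : Γ(ClSub.idealMod J, U.1)),
      OmegaSh.idealSect (J.comap I.subschemeι) (I.subschemeι ⁻¹ᵁ U.1) (φ.app U.1 a) =
        I.subschemeι.app U.1 (OmegaSh.idealSect J U.1 a) := by
  have mem : ∀ (U : X.Opens) (hU : IsAffineOpen U) (a : Γ(ClSub.idealMod J, U)),
      ∃ b : Γ(ClSub.idealMod (J.comap I.subschemeι), I.subschemeι ⁻¹ᵁ U),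
        OmegaSh.idealSect (J.comap I.subschemeι) (I.subschemeι ⁻¹ᵁ U) b =
          I.subschemeι.app U (OmegaSh.idealSect J U a) := by
    intro U hU a
    refine Groth.OmegaSheaf.exists_idealSect (J.comap I.subschemeι)
      ⟨I.subschemeι ⁻¹ᵁ U, hU.preimage _⟩ ?_
    rw [Divisors.ideal_comap_affine J I.subschemeι ⟨U, hU⟩ ⟨I.subschemeι ⁻¹ᵁ U, hU.preimage _⟩ le_rfl,
      ← Scheme.Hom.app_eq_appLE]
    exact Ideal.mem_map_of_mem _ (Groth.OmegaSheaf.idealSect_mem J ⟨U, hU⟩ a)
  choose b hb using mem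
  exact exists_hom_to_push I.subschemeι J (J.comap I.subschemeι) b hb

variable {I J} {φ : ClSub.idealMod J ⟶ trace I J}
  (hφ : ∀ (U : X.affineOpens) (a : Γ(ClSub.idealMod J, U.1)),
    OmegaSh.idealSect (J.comap I.subschemeι) (I.subschemeι ⁻¹ᵁ U.1) (φ.app U.1 a) =
      I.subschemeι.app U.1 (OmegaSh.idealSect J U.1 a))

include hφ in
/-- If `K ≤ J` has the same trace as `J` on `V(I)` then `K → trace` is epi. -/
theorem epi_resMap {K : X.IdealSheafData} (hK : K.comap I.subschemeι = J.comap I.subschemeι)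
    {χ : ClSub.idealMod K ⟶ ClSub.idealMod J} (hχ : χ ≫ ClSub.idealModι J = ClSub.idealModι K) :
    Epi (χ ≫ φ) := by
  haveI : (trace I J).IsQuasicoherent := Groth.QCohMod.isQCoh_pushforward _ _
  refine Groth.OmegaSheaf.epi_of_affine_cover _ fun x => ?_
  obtain ⟨U, hxU, -⟩ := Divisors.exists_affine_le x ⊤ trivial
  refine ⟨U.1, U.2, hxU, fun y => ?_⟩
  let V : I.subscheme.affineOpens := ⟨I.subschemeι ⁻¹ᵁ U.1, U.2.preimage _⟩
  have hy := Groth.OmegaSheaf.idealSect_mem (J.comap I.subschemeι) V y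
  have e : (J.comap I.subschemeι).ideal V = (K.ideal U).map (I.subschemeι.app U.1).hom := by
    rw [← hK, Divisors.ideal_comap_affine K I.subschemeι U V le_rfl, ← Scheme.Hom.app_eq_appLE]
  rw [e] at hy
  obtain ⟨w, hw, hwy⟩ :=
    (Ideal.mem_map_iff_of_surjective _ (I.subschemeι_app_surjective U)).1 hy
  obtain ⟨m, rfl⟩ := Groth.OmegaSheaf.exists_idealSect K U hw
  refine ⟨m, Groth.OmegaSheaf.idealSect_injective (J.comap I.subschemeι) (I.subschemeι ⁻¹ᵁ U.1) ?_⟩
  rw [KoszShLib.comp_app_apply, hφ, idealSect_of_incl hχ]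
  exact hwy

include hφ in
/-- The residual sequence `0 → I ∩ J → J → trace → 0`. -/
theorem exists_residualSeq {ψ : ClSub.idealMod (I ⊓ J) ⟶ ClSub.idealMod J}
    (hψ : ψ ≫ ClSub.idealModι J = ClSub.idealModι (I ⊓ J)) :
    ∃ w : ψ ≫ φ = 0, (ShortComplex.mk ψ φ w).ShortExact := by
  haveI : (trace I J).IsQuasicoherent := Groth.QCohMod.isQCoh_pushforward _ _
  have hz : ∀ (U : X.affineOpens) (m : Γ(ClSub.idealMod J, U.1)),
      φ.app U.1 m = 0 ↔ OmegaSh.idealSect J U.1 m ∈ I.ideal U := by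
    intro U m
    rw [← I.ker_subschemeι_app U, RingHom.mem_ker]
    refine ⟨fun h => ?_, fun h => Groth.OmegaSheaf.idealSect_injective (J.comap I.subschemeι) (I.subschemeι ⁻¹ᵁ U.1) ?_⟩
    · rw [← hφ U m, h]
      exact map_zero (OmegaSh.idealSect (J.comap I.subschemeι) (I.subschemeι ⁻¹ᵁ U.1))
    · rw [hφ U m]
      exact h.trans (map_zero (OmegaSh.idealSect (J.comap I.subschemeι) (I.subschemeι ⁻¹ᵁ U.1))).symm
  have w : ψ ≫ φ = 0 := by
    refine KTheory.ExtFilt.hom_ext_affine fun U hU x => ?_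
    rw [KoszShLib.comp_app_apply]
    refine ((hz ⟨U, hU⟩ _).2 ?_).trans rfl
    rw [idealSect_of_incl hψ]
    exact (show (I ⊓ J).ideal ⟨U, hU⟩ ≤ I.ideal ⟨U, hU⟩ from inf_le_left)
      (Groth.OmegaSheaf.idealSect_mem (I ⊓ J) ⟨U, hU⟩ x)
  refine ⟨w, { exact := ?_, mono_f := ?_, epi_g := ?_ }⟩
  · refine Groth.OmegaSheaf.exact_of_affine_cover _ fun x => ?_
    obtain ⟨U, hxU, -⟩ := Divisors.exists_affine_le x ⊤ trivial
    refine ⟨U.1, U.2, hxU, fun m hm => ?_⟩
    obtain ⟨l, hl⟩ := Groth.OmegaSheaf.exists_idealSect (I ⊓ J) U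
      (x := OmegaSh.idealSect J U.1 m) (by
        rw [Scheme.IdealSheafData.ideal_inf, Pi.inf_apply]
        exact ⟨(hz U m).1 hm, Groth.OmegaSheaf.idealSect_mem J U m⟩)
    exact ⟨l, Groth.OmegaSheaf.idealSect_injective _ _ ((idealSect_of_incl hψ _ l).trans hl)⟩
  · haveI : Mono (ClSub.idealModι (I ⊓ J)) := inferInstanceAs (Mono (kernel.ι _))
    exact mono_of_mono_fac hψ
  · have h : Epi (𝟙 _ ≫ φ) := epi_resMap hφ rfl (Category.id_comp _)
    rwa [Category.id_comp] at h

end Residual

variable {k : Type u} [Field k]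

theorem hDelta_eq_zero_of_surjective {X : Scheme.{u}} [X.Over (Spec (CommRingCat.of k))]
    {S : ShortComplex X.Modules} (hS : S.ShortExact) (h : Function.Surjective (S.g.app ⊤))
    (z : Coh.HH X S.X₃ 0) : EulerDeg.hDelta k hS 0 z = 0 := by
  refine (EulerDeg.exact_right k hS 0 z).2 ?_
  obtain ⟨w, hw⟩ := h (EulerDeg.h0Equiv k S.X₃ z)
  obtain ⟨x, rfl⟩ := (EulerDeg.h0Equiv k S.X₂).surjective w
  refine ⟨x, (EulerDeg.h0Equiv k S.X₃).injective ?_⟩
  rw [← hw]
  exact (Sheaf.H.equiv₀_naturality (hT := (isTerminalTop : IsTerminal (⊤ : Opens X)))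
    (f := (SheafOfModules.toSheaf X.ringCatSheaf).map S.g) x).symm

/-- Independent linear forms cut linear subspaces of the expected dimension. -/
theorem good_of_linearIndependent {n r : ℕ} (l : Fin r → LefPen.Form n k 1)
    (hl : LinearIndependent k l) (hr : r ≤ n) : Good (a := fun _ : Fin r => 1) l := by
  classical
  have hfr : Module.finrank k (LefPen.Form n k 1) = n + 1 := by
    refine (Groth.SGA7.Forms.finrank_form n k 1).trans ?_
    rw [Nat.choose_one_right]
  haveI : Module.Finite k (LefPen.Form n k 1) := Module.finite_of_finrank_eq_succ hfr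
  have key : ∀ y : ProjectiveSpectrum (CohB1.polyGrading n k),
      (∀ j, (l j).1 ∈ y.asHomogeneousIdeal) → r ≤ n ∧ Variety2.PSpace.ht y + r ≤ n := by
    intro y hy
    by_contra hcon
    let hs := hl.linearIndepOn_id
    let b := Module.Basis.extend hs
    have hb : ∀ v, b v = (v : LefPen.Form n k 1) := fun v => Module.Basis.extend_apply_self hs v
    let s := hs.extend (Set.subset_univ (Set.range l))
    haveI : Fintype s := FiniteDimensional.fintypeBasisIndex b
    have hcard : Fintype.card s = n + 1 := by rw [← Module.finrank_eq_card_basis b, hfr]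
    have hsub : Set.range l ⊆ s := hs.subset_extend _
    let T : Finset (LefPen.Form n k 1) := s.toFinset \ Finset.univ.image l
    have hT : T.card = n + 1 - r := by
      rw [Finset.card_sdiff_of_subset, Set.toFinset_card, hcard,
        Finset.card_image_of_injective _ hl.injective, Finset.card_univ, Fintype.card_fin]
      intro v hv
      obtain ⟨j, -, rfl⟩ := Finset.mem_image.1 hv
      exact Set.mem_toFinset.2 (hsub ⟨j, rfl⟩)
    obtain ⟨m, hm⟩ := Variety2.PSpace.exists_ht_eq y
    obtain ⟨x, hx, hxT⟩ := Variety2.PSpace.exists_mem_of_card_le y (T.image Subtype.val)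
      (fun f hf => by
        obtain ⟨g, -, rfl⟩ := Finset.mem_image.1 hf
        exact ⟨1, one_pos, g.2⟩) (by
        rw [hm]
        refine Nat.cast_le.2 (Finset.card_image_le.trans (hT.le.trans ?_))
        by_contra hlt
        refine hcon ⟨by omega, ?_⟩
        rw [hm]
        exact_mod_cast (show m + r ≤ n by omega))
    have hall : ∀ v ∈ s, (v : MvPolynomial (Fin (n + 1)) k) ∈ x.asHomogeneousIdeal := by
      intro v hv
      by_cases hvl : v ∈ Set.range l
      · obtain ⟨j, rfl⟩ := hvl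
        exact (Variety2.PSpace.specializes_iff y x).1 hx (hy j)
      · refine hxT _ (Finset.mem_image_of_mem _ (Finset.mem_sdiff.2 ⟨Set.mem_toFinset.2 hv, fun h => ?_⟩))
        obtain ⟨j, -, rfl⟩ := Finset.mem_image.1 h
        exact hvl ⟨j, rfl⟩
    obtain ⟨i, hi⟩ := Variety2.PSpace.exists_X_notMem x
    refine hi ?_
    let P : Submodule k (LefPen.Form n k 1) :=
      (x.asHomogeneousIdeal.toIdeal.restrictScalars k).comap (CohB1.polyGrading n k 1).subtype
    have hP : P = ⊤ := by
      rw [eq_top_iff, ← b.span_eq, Submodule.span_le]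
      rintro _ ⟨v, rfl⟩
      show b v ∈ P
      rw [hb v]
      exact hall v.1 v.2
    exact (show (⟨MvPolynomial.X i, LefPen.X_mem n k i⟩ : LefPen.Form n k 1) ∈ P from
      hP ▸ Submodule.mem_top)
  exact ⟨hr, fun y hy => (key y hy).2⟩

variable {n : ℕ}

local notation "ℙ" => CohB1.ProjSpace n k
local notation "O(" d ")" => Twist.twistProjSpace n k d

/-- Any epimorphism onto the restriction is surjective on global sections when the unit is. -/
theorem surjective_of_epi {X Z : Scheme.{u}} (i : Z ⟶ X) [IsClosedImmersion i] {L : X.Modules}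
    (hL : PicF.IsInvertible L) {L' : Z.Modules} (e : (Scheme.Modules.pullback i).obj L ≅ L')
    (g : L ⟶ (Scheme.Modules.pushforward i).obj L') [Epi g]
    (h : Function.Surjective (((Scheme.Modules.pullbackPushforwardAdjunction i).unit.app L).app ⊤)) :
    Function.Surjective (g.app ⊤) := by
  let A := Scheme.Modules.pullbackPushforwardAdjunction i
  let ρ := (A.homEquiv _ _).symm g
  haveI : PreservesColimitsOfSize.{0, 0} (Scheme.Modules.pullback i) := A.leftAdjoint_preservesColimits
  haveI : Epi ((Scheme.Modules.pullback i).map g) := (Scheme.Modules.pullback i).map_epi g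
  haveI : Epi ρ := by
    change Epi ((A.homEquiv _ _).symm g)
    rw [Adjunction.homEquiv_counit]
    infer_instance
  have hr := Groth.LocFree.isInvertible_iff_ofRank_one.1 (isInvertible_pullback i hL)
  haveI : IsIso ρ := PnHyper.isIso_of_epi_rank hr (Groth.LocFree.isFinLocFreeOfRank_of_iso e hr) ρ
  have hg : g = A.unit.app L ≫ (Scheme.Modules.pushforward i).map ρ :=
    ((A.homEquiv _ _).apply_symm_apply g).symm.trans (Adjunction.homEquiv_unit _ _ _ _)
  rw [hg]
  exact (bijective_app_of_isIso ((Scheme.Modules.pushforward i).map ρ)).2.comp h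

/-- Twisted ideals of complete intersections are acyclic in high twists. -/
theorem subsingleton_idealMod_twist {r : ℕ} (a : Fin r → ℕ) (ha : ∀ j, 0 < a j)
    (G : ∀ j, LefPen.Form n k (a j)) (hG : Good G) (hr : r < n) (t : ℤ)
    (ht : (∑ j, (a j : ℤ)) - n - 1 < t) (ht' : -(n : ℤ) - 1 < t) (q : ℕ) (hq : 1 ≤ q) :
    Subsingleton (Coh.HH ℙ (CohB1.tensorMod (ClSub.idealMod (LefPen.ciIdeal G)) O(t)) q) := by
  set ι := (LefPen.ciIdeal G).subschemeι
  have hL : PicF.IsInvertible O(t) := PlaneCurve.isInvertible_twistProjSpace t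
  obtain ⟨l, -⟩ := exists_leftUnitor O(t)
  obtain ⟨π, -⟩ := Groth.PnCoh.exists_projectionFormula ι
    (Coh.structureModule (LefPen.ciIdeal G).subscheme) hL
  obtain ⟨l', -⟩ := exists_leftUnitor ((Scheme.Modules.pullback ι).obj O(t))
  let S := (ShortComplex.mk (ClSub.idealModι (LefPen.ciIdeal G)) (ClSub.toSubscheme (LefPen.ciIdeal G))
    (kernel.condition (ClSub.toSubscheme (LefPen.ciIdeal G)))).map (DCoh.tensorRightMod O(t))
  have hS : S.ShortExact := shortExact_idealMod_twist _ hL
  let e3 : S.X₃ ≅ rest ι O(t) := π ≪≫ (Scheme.Modules.pushforward ι).mapIso l'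
  obtain ⟨m, rfl⟩ : ∃ m, q = m + 1 := ⟨q - 1, by omega⟩
  have h2 : Subsingleton (Coh.HH ℙ S.X₂ (m + 1)) := subsingleton_congr l (m + 1)
    (Groth.PnCoh.subsingleton_HH_twist t (m + 1) (by omega) (by omega))
  have h3 : ∀ j : ℕ, 1 ≤ j → Subsingleton (Coh.HH ℙ (rest ι O(t)) j) := by
    intro j hj
    rcases lt_trichotomy j (n - r) with h | h | h
    · exact (main r a ha G hG).1 t j hj h
    · subst h
      exact (top_iff r a ha G hG hr t).2 ht
    · exact (subsingleton_rest_iff ι O(t) j).2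
        (Duality.Closed.subsingleton_HH_of_lt ι (dim_le_of_good ha G hG) _ h)
  refine ⟨fun x y => ?_⟩
  obtain ⟨x', rfl⟩ := (EulerDeg.exact_left k hS m x).1 (@Subsingleton.elim _ h2 _ _)
  obtain ⟨y', rfl⟩ := (EulerDeg.exact_left k hS m y).1 (@Subsingleton.elim _ h2 _ _)
  cases m with
  | succ m => rw [@Subsingleton.elim _ (subsingleton_congr e3 (m + 1) (h3 (m + 1) (by omega))) x' y']
  | zero =>
    haveI := hS.epi_g
    haveI : Epi (l.inv ≫ S.g ≫ e3.hom) :=
      @epi_comp _ _ _ _ _ l.inv inferInstance _ (@epi_comp _ _ _ _ _ S.g hS.epi_g _ inferInstance)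
    obtain ⟨g, hge, hgs⟩ := (main r a ha G hG).2 (by omega) t
    have hsurj : Function.Surjective ((l.inv ≫ S.g ≫ e3.hom).app ⊤) :=
      surjective_of_epi ι hL (Iso.refl _) _ (surjective_unit ι hL g hgs)
    have hg' : Function.Surjective (S.g.app ⊤) := fun z => by
      obtain ⟨w, hw⟩ := hsurj (e3.hom.app ⊤ z)
      exact ⟨l.inv.app ⊤ w, (bijective_app_of_isIso e3.hom).1 hw⟩
    have hd := hDelta_eq_zero_of_surjective (k := k) hS hg'
    rw [hd x', hd y']

end Groth.PnCI
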