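import Groth.Agent.PlaneCurve.HypIdeal
import Groth.Agent.Duality.PnStalk
import Groth.Agent.Calg6.CMSop
import Groth.Agent.Variety2.ProjDim

/-!
# Complete intersections in projective space: the equations form a regular sequence
-/

set_option linter.style.haveILetI false
set_option backward.isDefEq.respectTransparency.types false

universe u

open CategoryTheory AlgebraicGeometry TopologicalSpace
open Groth.PicAux

namespace Groth.PnCI

variable {k : Type u} [Field k] {n r : ℕ}

local notation "ℙg" => CohB1.polyGrading n k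
local notation "Pt" => ProjectiveSpectrum (CohB1.polyGrading n k)
local notation "ℙ" => CohB1.ProjSpace n k

theorem isAffineOpen_chart (i : Fin (n + 1)) : IsAffineOpen (LefPen.chart n k i) :=
  Proj.isAffineOpen_basicOpen ℙg _ (LefPen.X_mem n k i) one_pos

/-- The chart as an affine open. -/
noncomputable abbrev chartAff (i : Fin (n + 1)) : (CohB1.ProjSpace n k).affineOpens :=
  ⟨LefPen.chart n k i, isAffineOpen_chart i⟩

theorem exists_mem_chart (y : ℙ) : ∃ i, y ∈ LefPen.chart n k i :=
  Variety2.PSpace.exists_X_notMem (k := k) (n := n) y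

theorem mem_basicOpen_dehom {d : ℕ} (hd : 0 < d) (G : LefPen.Form n k d) (i : Fin (n + 1)) {y : Pt}
    (hy : y ∈ LefPen.chart n k i) :
    y ∈ (ℙ).basicOpen (LefPen.dehom G i) ↔ G.1 ∉ y.asHomogeneousIdeal := by
  let U : (Proj ℙg).Opens := Proj.basicOpen ℙg (MvPolynomial.X i)
  have e : U.ι = Proj.basicOpenToSpec ℙg (MvPolynomial.X i) ≫
      Proj.awayι ℙg (MvPolynomial.X i) (LefPen.X_mem n k i) one_pos := by
    rw [Proj.awayι, ← Proj.basicOpenIsoSpec_hom ℙg (MvPolynomial.X i) (LefPen.X_mem n k i) one_pos,
      Iso.hom_inv_id_assoc]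
  have h1 : U.ι ⁻¹ᵁ Proj.basicOpen ℙg G.1 = U.ι ⁻¹ᵁ (Proj ℙg).basicOpen (LefPen.dehom G i) := by
    rw [← Scheme.Opens.toSpecΓ_preimage_basicOpen]
    conv_lhs => rw [e]
    rw [Scheme.Hom.comp_preimage, Proj.awayι_preimage_basicOpen ℙg (LefPen.X_mem n k i) one_pos G.2 hd,
      Proj.basicOpenToSpec, Scheme.Hom.comp_preimage]
    congr 1
    rw [show HomogeneousLocalization.Away.isLocalizationElem (LefPen.X_mem n k i) G.2 =
      HomogeneousLocalization.Away.mk ℙg (LefPen.X_mem n k i) d G.1
        (by rw [smul_eq_mul, mul_one]; exact G.2) from HomogeneousLocalization.val_injective _ (by simp)]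
    rfl
  exact (SetLike.ext_iff.1 h1 ⟨y, hy⟩).symm

theorem ideal_hyp_chart {d : ℕ} (G : LefPen.Form n k d) (i : Fin (n + 1)) :
    (LefPen.hypIdeal G).ideal (chartAff i) = Ideal.span {LefPen.dehom G i} := by
  rw [PlaneCurve.hypIdeal_eq_zeroScheme]
  exact Variety2.Zero.zeroScheme_ideal_eq_span (PlaneCurve.isInvertible_twistProjSpace _) _ (chartAff i)
    (PlaneCurve.gen_frame (k := k) i d) (c := LefPen.dehom G i)
    ((PlaneCurve.formHom_app_of_le G i le_rfl).trans (by rw [resX_self, res_self]))

theorem ideal_ci_chart {a : Fin r → ℕ} (G : ∀ j, LefPen.Form n k (a j)) (i : Fin (n + 1)) :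
    (LefPen.ciIdeal G).ideal (chartAff i) = Ideal.span (Set.range fun j => LefPen.dehom (G j) i) := by
  rw [LefPen.ciIdeal, Scheme.IdealSheafData.ideal_iSup, iSup_apply, Ideal.span,
    Submodule.span_range_eq_iSup]
  exact iSup_congr fun j => ideal_hyp_chart (G j) i

theorem mem_ci_support_iff {a : Fin r → ℕ} (ha : ∀ j, 0 < a j) (G : ∀ j, LefPen.Form n k (a j))
    {y : Pt} :
    (show ↥(CohB1.ProjSpace n k) from y) ∈ (LefPen.ciIdeal G).support ↔
      ∀ j, (G j).1 ∈ y.asHomogeneousIdeal := by
  obtain ⟨i, hi⟩ := exists_mem_chart (k := k) (n := n) y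
  rw [Scheme.IdealSheafData.mem_support_iff_of_mem (U := chartAff i) hi, ideal_ci_chart,
    Scheme.zeroLocus_span, Scheme.mem_zeroLocus_iff, Set.forall_mem_range]
  exact forall_congr' fun j => (not_congr (mem_basicOpen_dehom (ha j) (G j) i hi)).trans not_not

/-- The common zeros have at most the expected dimension. -/
def Good {a : Fin r → ℕ} (G : ∀ j, LefPen.Form n k (a j)) : Prop :=
  r ≤ n ∧ ∀ y : Pt, (∀ j, (G j).1 ∈ y.asHomogeneousIdeal) → Variety2.PSpace.ht y + r ≤ n

theorem good_of_dim (hr : r ≤ n) {a : Fin r → ℕ} (ha : ∀ j, 0 < a j)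
    (G : ∀ j, LefPen.Form n k (a j))
    (hdim : topologicalKrullDim ↥(LefPen.ciIdeal G).subscheme = ((n - r : ℕ) : WithBot ℕ∞)) :
    Good G := by
  refine ⟨hr, fun y hy => ?_⟩
  have hy' := (mem_ci_support_iff ha G).2 hy
  rw [← SetLike.mem_coe, ← Scheme.IdealSheafData.range_subschemeι] at hy'
  obtain ⟨z, hz⟩ := hy'
  have h1 := Variety2.Dim.height_eq_of_isPreimmersion
    ((LefPen.ciIdeal G).subschemeι ≫ CohB1.ProjSpace.toSpec n k) (CohB1.ProjSpace.toSpec n k)
    (LefPen.ciIdeal G).subschemeι rfl z
  have h2 : Order.height z ≤ ((n - r : ℕ) : ℕ∞) :=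
    WithBot.coe_le_coe.1 (((le_iSup (fun x => ((Order.height x : ℕ∞) : WithBot ℕ∞)) z).trans_eq
      (Variety2.Dim.dim_eq_iSup_height _).symm).trans_eq hdim)
  have h3 : Variety2.PSpace.ht y ≤ ((n - r : ℕ) : ℕ∞) := by
    refine le_of_eq_of_le ?_ h2
    rw [← hz]
    exact h1
  refine (add_le_add h3 le_rfl).trans ?_
  exact_mod_cast (show n - r + r ≤ n by omega)

theorem good_init {a : Fin (r + 1) → ℕ} (ha : ∀ j, 0 < a j)
    {G : ∀ j, LefPen.Form n k (a j)} (h : Good G) :
    Good (fun j : Fin r => G j.castSucc) := by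
  refine ⟨(Nat.le_succ r).trans h.1, fun y hy => ?_⟩
  have mono : ∀ z : Pt, y ⤳ z → ∀ j : Fin r, (G j.castSucc).1 ∈ z.asHomogeneousIdeal :=
    fun z hz j => (Variety2.PSpace.specializes_iff y z).1 hz (hy j)
  by_cases hg : (G (Fin.last r)).1 ∈ y.asHomogeneousIdeal
  · refine le_trans ?_ (h.2 y (Fin.lastCases hg hy))
    push_cast
    exact add_le_add le_rfl le_self_add
  by_cases h0 : Variety2.PSpace.ht y = 0
  · rw [h0, zero_add]
    exact_mod_cast (Nat.le_succ r).trans h.1
  obtain ⟨x, hx, hgx⟩ := Variety2.PSpace.exists_mem_of_pos (G (Fin.last r)).2 (ha _) h0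
  obtain ⟨z, ⟨hyz, hgz⟩, -, hmax⟩ := Variety2.PSpace.exists_maximal
    (S := {z | y ⤳ z ∧ (G (Fin.last r)).1 ∈ z.asHomogeneousIdeal}) (x := x) ⟨hx, hgx⟩
  rw [← Variety2.PSpace.ht_add_one (G (Fin.last r)).2 (ha _) hyz hg hgz
    fun w a b c => hmax w ⟨a, c⟩ b]
  refine le_of_eq_of_le ?_ (h.2 z (Fin.lastCases hgz (mono z hyz)))
  push_cast
  ring

theorem regular_stalk_algebra {X : Scheme.{u}} {U : X.Opens} (hU : IsAffineOpen U)
    (p : PrimeSpectrum Γ(X, U)) (h : ∀ x : X, IsRegularLocalRing (X.presheaf.stalk x)) :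
    IsRegularLocalRing (Localization.AtPrime p.asIdeal) := by
  let x := hU.fromSpec p
  have hx : x ∈ U := Variety2.Dim.fromSpec_mem hU p
  let _ : Algebra Γ(X, U) (X.presheaf.stalk x) :=
    TopCat.Presheaf.algebra_section_stalk X.presheaf ⟨x, hx⟩
  have : IsLocalization.AtPrime (X.presheaf.stalk x) p.asIdeal := hU.isLocalization_stalk' p hx
  have := h x
  exact IsRegularLocalRing.of_ringEquiv (IsLocalization.algEquiv p.asIdeal.primeCompl
    (X.presheaf.stalk x) (Localization.AtPrime p.asIdeal)).toRingEquiv

theorem dim_localization_add_height {X : Scheme.{u}} [IrreducibleSpace X]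
    (f : X ⟶ Spec (CommRingCat.of k)) [LocallyOfFiniteType f] {U : X.Opens} (hU : IsAffineOpen U)
    (p : PrimeSpectrum Γ(X, U)) :
    ringKrullDim (Localization.AtPrime p.asIdeal) + (Order.height (hU.fromSpec p) : ℕ∞) =
      topologicalKrullDim X := by
  let x := hU.fromSpec p
  have hx : x ∈ U := Variety2.Dim.fromSpec_mem hU p
  let _ : Algebra Γ(X, U) (X.presheaf.stalk x) :=
    TopCat.Presheaf.algebra_section_stalk X.presheaf ⟨x, hx⟩
  have : IsLocalization.AtPrime (X.presheaf.stalk x) p.asIdeal := hU.isLocalization_stalk' p hx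
  rw [← Variety2.Dim.ringKrullDim_stalk_add_height f x, ringKrullDim_eq_of_ringEquiv
    (IsLocalization.algEquiv p.asIdeal.primeCompl (X.presheaf.stalk x)
      (Localization.AtPrime p.asIdeal)).toRingEquiv.symm]

/-- The last equation is a nonzerodivisor modulo the others. -/
theorem mem_of_mul_mem {a : Fin (r + 1) → ℕ} (ha : ∀ j, 0 < a j)
    {G : ∀ j, LefPen.Form n k (a j)} (h : Good G) (i : Fin (n + 1))
    (z : Γ(CohB1.ProjSpace n k, LefPen.chart n k i))
    (hz : LefPen.dehom (G (Fin.last r)) i * z ∈
      Ideal.span (Set.range fun j : Fin r => LefPen.dehom (G j.castSucc) i)) :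
    z ∈ Ideal.span (Set.range fun j : Fin r => LefPen.dehom (G j.castSucc) i) := by
  set A : Type u := ↑Γ(CohB1.ProjSpace n k, LefPen.chart n k i)
  set b := LefPen.dehom (G (Fin.last r)) i
  set l : List A := List.ofFn fun j : Fin r => LefPen.dehom (G j.castSucc) i with hl
  have hI : Ideal.span (Set.range fun j : Fin r => LefPen.dehom (G j.castSucc) i) = Ideal.ofList l := by
    rw [hl, Ideal.ofList]
    congr 1
    ext c
    simp
    exact Iff.rfl
  rw [hI] at hz ⊢
  have := Duality.Pn.irreducibleSpace_projSpace n k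
  have hU := isAffineOpen_chart (k := k) (n := n) i
  have : IsLocallyNoetherian (CohB1.ProjSpace n k) :=
    LocallyOfFiniteType.isLocallyNoetherian (CohB1.ProjSpace.toSpec n k)
  have : IsNoetherianRing A := IsLocallyNoetherian.component_noetherian ⟨_, hU⟩
  refine Ideal.mem_of_localization_maximal fun P hP => ?_
  let p : PrimeSpectrum A := ⟨P, hP.isPrime⟩
  let R := Localization.AtPrime P
  have : IsRegularLocalRing R :=
    regular_stalk_algebra hU p (Duality.Pn.isRegularLocalRing_stalk n k)
  by_cases hlP : Ideal.ofList l ≤ P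
  · by_cases hbP : b ∈ P
    · let l' : List R := (l ++ [b]).map (algebraMap A R)
      have hmem : ∀ x ∈ l', x ∈ IsLocalRing.maximalIdeal R := by
        intro x hx
        obtain ⟨c, hc, rfl⟩ := List.mem_map.1 hx
        refine (IsLocalization.AtPrime.to_map_mem_maximal_iff R P c).2 ?_
        rcases List.mem_append.1 hc with hc | hc
        · exact hlP (Ideal.subset_span hc)
        · rw [List.mem_singleton.1 hc]; exact hbP
      have hlen : l'.length = r + 1 := by simp [l', hl]
      have hdim : Module.supportDim R (R ⧸ Ideal.ofList l' • (⊤ : Submodule R R)) +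
          (l'.length : WithBot ℕ∞) ≤ Module.supportDim R R := by
        rw [smul_eq_mul, Ideal.mul_top, Module.supportDim_quotient_eq_ringKrullDim,
          Module.supportDim_self_eq_ringKrullDim, hlen]
        have htop := dim_localization_add_height (CohB1.ProjSpace.toSpec n k) hU p
        rw [Variety2.PSpace.dim_projSpace] at htop
        obtain ⟨m, hm⟩ := Variety2.Dim.exists_height_eq (CohB1.ProjSpace.toSpec n k) (hU.fromSpec p)
        rw [hm] at htop
        obtain ⟨N, hN⟩ : ∃ N : ℕ, ringKrullDim R = (N : WithBot ℕ∞) := by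
          obtain ⟨e, he⟩ := WithBot.ne_bot_iff_exists.1 (ringKrullDim_ne_bot (R := R))
          cases e with
          | top => exact absurd (he.symm) ringKrullDim_ne_top
          | coe e => exact ⟨e, he.symm⟩
        rw [show ringKrullDim (Localization.AtPrime p.asIdeal) = (N : WithBot ℕ∞) from hN] at htop
        have hNm : N + m = n := by exact_mod_cast htop
        rw [hN, ringKrullDim_quotient]
        have key : ∀ s : LTSeries (PrimeSpectrum.zeroLocus (R := R) (Ideal.ofList l' : Set R)),
            m + s.length + (r + 1) ≤ n := by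
          intro s
          let φ : PrimeSpectrum R → PrimeSpectrum A := PrimeSpectrum.comap (algebraMap A R)
          have hφ : StrictMono φ := fun q q' hq => by
            refine lt_of_le_of_ne (Ideal.comap_mono hq.le) fun e => hq.ne ?_
            exact (PrimeSpectrum.localization_comap_injective R P.primeCompl) e
          let s' := s.map (fun q => φ q.1) fun q q' hq => hφ hq
          let t := Variety2.Dim.pointSeries hU s'
          have hle : hU.fromSpec p ≤ t.head := by
            refine le_of_le_of_eq ((Variety2.Dim.le_fromSpec_iff hU (φ s.last.1) p).2 ?_) ?_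
            · intro c hc
              by_contra hcP
              exact (s.last.1.2).ne_top (Ideal.eq_top_of_isUnit_mem _ hc
                (IsLocalization.map_units R (⟨c, hcP⟩ : P.primeCompl)))
            · show _ = hU.fromSpec (s' (0 : Fin (s'.length + 1)).rev)
              rw [Fin.rev_zero]
              rfl
          have hlast : t.last = hU.fromSpec (φ s.head.1) := by
            show hU.fromSpec (s' (Fin.last s'.length).rev) = _
            rw [Fin.rev_last]
            rfl
          have hG : ∀ j, (G j).1 ∈ (show Pt from t.last).asHomogeneousIdeal := by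
            intro j
            have hq : LefPen.dehom (G j) i ∈ (φ s.head.1).asIdeal := by
              refine s.head.2 (Ideal.subset_span (List.mem_map_of_mem ?_))
              induction j using Fin.lastCases with
              | last => exact List.mem_append_right _ List.mem_cons_self
              | cast j => exact List.mem_append_left _ (List.mem_ofFn.2 ⟨j, rfl⟩)
            by_contra hn
            have h1 : hU.fromSpec (φ s.head.1) ∈
                (CohB1.ProjSpace n k).basicOpen (LefPen.dehom (G j) i) := hlast ▸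
              (mem_basicOpen_dehom (ha j) (G j) i (hlast.symm ▸ Variety2.Dim.fromSpec_mem hU _)).2 hn
            rw [← Scheme.Hom.mem_preimage, hU.fromSpec_preimage_basicOpen] at h1
            exact h1 hq
          have h1 := (add_le_add (Order.height_mono hle) le_rfl).trans
            (Variety2.Dim.height_add_length_le (CohB1.ProjSpace.toSpec n k) t)
          rw [hm] at h1
          have h2 := (add_le_add h1 le_rfl).trans (h.2 _ hG)
          exact_mod_cast h2
        rw [Order.krullDim]
        rcases isEmpty_or_nonempty (LTSeries (PrimeSpectrum.zeroLocus (R := R) (Ideal.ofList l' : Set R)))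
          with he | he
        · rw [iSup_of_empty, WithBot.bot_add]
          exact bot_le
        · have hrN : r + 1 ≤ N := by
            have := key he.some
            omega
          refine (add_le_add (b := ((N - (r + 1) : ℕ) : WithBot ℕ∞)) (iSup_le fun s => ?_) le_rfl).trans ?_
          · exact_mod_cast (show s.length ≤ N - (r + 1) by have := key s; omega)
          · exact_mod_cast (show N - (r + 1) + (r + 1) ≤ N by omega)
      have hreg := Calg6.isWeaklyRegular_of_supportDim_add_length_le l' R
        (Calg6.isCohenMacaulayModule_of_isRegularLocalRing R) hmem hdim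
      simp only [l', List.map_append, List.map_cons, List.map_nil] at hreg
      have hlast := ((RingTheory.Sequence.isWeaklyRegular_append_iff _ _ _).1 hreg).2
      rw [RingTheory.Sequence.isWeaklyRegular_cons_iff] at hlast
      have h2 := hlast.1
      rw [isSMulRegular_quotient_iff_mem_of_smul_mem, smul_eq_mul, Ideal.mul_top,
        ← Ideal.map_ofList] at h2
      refine h2 _ ?_
      rw [smul_eq_mul, ← map_mul]
      exact Ideal.mem_map_of_mem _ hz
    · have hu : IsUnit (algebraMap A R b) := IsLocalization.map_units R (⟨b, hbP⟩ : P.primeCompl)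
      have h2 := Ideal.mem_map_of_mem (algebraMap A R) hz
      rw [map_mul] at h2
      exact (Ideal.unit_mul_mem_iff_mem _ hu).1 h2
  · obtain ⟨c, hc, hcP⟩ := SetLike.not_le_iff_exists.1 hlP
    rw [Ideal.eq_top_of_isUnit_mem _ (Ideal.mem_map_of_mem _ hc)
      (IsLocalization.map_units R (⟨c, hcP⟩ : P.primeCompl))]
    exact Submodule.mem_top

end Groth.PnCI
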