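import Groth.Agent.PnCI.Regular
import Groth.Agent.PnHyper.Seq
import Groth.Agent.Divisors.EffCartier
import Groth.Agent.ModelsGraphs.ExcPair
import Groth.Agent.Duality.PnStalk

/-!
# Complete intersections: cutting by the next equation
-/

set_option linter.style.haveILetI false
set_option backward.isDefEq.respectTransparency.types false

universe u

open CategoryTheory CategoryTheory.Limits AlgebraicGeometry TopologicalSpace
open Groth.PicAux

namespace Groth.PnCI

variable {k : Type u} [Field k] {n r : ℕ} {a : Fin (r + 1) → ℕ}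
  {G : ∀ j, LefPen.Form n k (a j)}

local notation "ℙ" => CohB1.ProjSpace n k

theorem form_ne_zero (ha : ∀ j, 0 < a j) (h : Good G) : G (Fin.last r) ≠ 0 := by
  classical
  intro h0
  obtain ⟨hr, hG⟩ := h
  let S := Finset.univ.image fun j : Fin r => (G j.castSucc).1
  have hS : ∀ f ∈ S, ∃ d, 0 < d ∧ f.IsHomogeneous d := by
    intro f hf
    obtain ⟨j, -, rfl⟩ := Finset.mem_image.1 hf
    exact ⟨_, ha j.castSucc, (G j.castSucc).2⟩
  have hc : S.card ≤ r := Finset.card_image_le.trans (by simp)
  obtain ⟨x, hx1, hx2⟩ := Variety2.PSpace.exists_mem_of_card_le (Variety2.PSpace.eta n k) S hS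
    (by rw [Variety2.PSpace.ht_eta]; exact_mod_cast hc.trans ((Nat.le_succ r).trans hr))
  obtain ⟨z, ⟨hz1, hz2⟩, -, hmax⟩ := Variety2.PSpace.exists_maximal
    (S := {z | Variety2.PSpace.eta n k ⤳ z ∧ ∀ f ∈ S, f ∈ z.asHomogeneousIdeal}) (x := x) ⟨hx1, hx2⟩
  have h1 := Variety2.PSpace.ht_le_add_card _ S hS hz1 hz2 fun w a b c => hmax w ⟨a, c⟩ b
  have h2 := hG z (Fin.lastCases (by rw [h0]; exact Submodule.zero_mem _)
    fun j => hz2 _ (Finset.mem_image_of_mem (fun j : Fin r => (G j.castSucc).1) (Finset.mem_univ j)))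
  obtain ⟨m, hm⟩ := Variety2.PSpace.exists_ht_eq z
  rw [Variety2.PSpace.ht_eta, hm] at h1
  rw [hm] at h2
  have h1 : n ≤ m + S.card := by exact_mod_cast h1
  have h2 : m + (r + 1) ≤ n := by exact_mod_cast h2
  omega

/-- The next hypersurface cuts an effective Cartier divisor. -/
theorem isEffCartierIdeal_step (ha : ∀ j, 0 < a j) (h : Good G) :
    BlowUp.IsEffCartierIdeal ((LefPen.hypIdeal (G (Fin.last r))).comap
      (LefPen.ciIdeal fun j : Fin r => G j.castSucc).subschemeι) := by
  set ι := (LefPen.ciIdeal fun j : Fin r => G j.castSucc).subschemeι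
  intro x
  obtain ⟨i, hi⟩ := exists_mem_chart (k := k) (n := n) (ι x)
  let V : (LefPen.ciIdeal fun j : Fin r => G j.castSucc).subscheme.affineOpens :=
    ⟨ι ⁻¹ᵁ (chartAff i).1, (chartAff i).2.preimage ι⟩
  refine ⟨V, hi, ι.app (chartAff i).1 (LefPen.dehom (G (Fin.last r)) i), ?_, ?_⟩
  · refine mem_nonZeroDivisors_iff_right.2 fun w hw => ?_
    obtain ⟨z, rfl⟩ := (LefPen.ciIdeal fun j : Fin r => G j.castSucc).subschemeι_app_surjective
      (chartAff i) w
    rw [← map_mul, mul_comm, ← RingHom.mem_ker, Scheme.IdealSheafData.ker_subschemeι_app,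
      ideal_ci_chart] at hw
    rw [← RingHom.mem_ker, Scheme.IdealSheafData.ker_subschemeι_app, ideal_ci_chart]
    exact mem_of_mul_mem ha h i z hw
  · rw [Divisors.ideal_comap_affine _ ι (chartAff i) V le_rfl, ideal_hyp_chart, Ideal.map_span,
      Set.image_singleton, ← Scheme.Hom.app_eq_appLE]

/-- The ideal of the next divisor is the twist. -/
theorem nonempty_idealMod_step (ha : ∀ j, 0 < a j) (h : Good G) :
    Nonempty (ClSub.idealMod ((LefPen.hypIdeal (G (Fin.last r))).comap
        (LefPen.ciIdeal fun j : Fin r => G j.castSucc).subschemeι) ≅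
      (Scheme.Modules.pullback (LefPen.ciIdeal fun j : Fin r => G j.castSucc).subschemeι).obj
        (Twist.twistProjSpace n k (-(a (Fin.last r) : ℤ)))) := by
  have hG := form_ne_zero ha h
  obtain ⟨e⟩ := pullback_idealMod (LefPen.ciIdeal fun j : Fin r => G j.castSucc).subschemeι
    (PlaneCurve.isEffCartierIdeal_hypIdeal hG) (isEffCartierIdeal_step ha h)
  obtain ⟨e'⟩ := PlaneCurve.nonempty_idealMod_hypIdeal hG
  exact ⟨e.symm ≪≫ (Scheme.Modules.pullback _).mapIso e'⟩

theorem ciIdeal_eq_sup :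
    LefPen.ciIdeal G = LefPen.hypIdeal (G (Fin.last r)) ⊔
      LefPen.ciIdeal fun j : Fin r => G j.castSucc :=
  le_antisymm
    (iSup_le fun j => Fin.lastCases le_sup_left
      (fun j => (le_iSup (fun j : Fin r => LefPen.hypIdeal (G j.castSucc)) j).trans le_sup_right) j)
    (sup_le (le_iSup (fun j => LefPen.hypIdeal (G j)) _)
      (iSup_le fun j => le_iSup (fun j => LefPen.hypIdeal (G j)) j.castSucc))

/-- The next divisor is the complete intersection itself. -/
theorem ker_step :
    (((LefPen.hypIdeal (G (Fin.last r))).comap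
        (LefPen.ciIdeal fun j : Fin r => G j.castSucc).subschemeι).subschemeι ≫
      (LefPen.ciIdeal fun j : Fin r => G j.castSucc).subschemeι).ker = LefPen.ciIdeal G := by
  refine (ModelsGraphs.ExcPair.map_comap_eq_sup
    (LefPen.ciIdeal fun j : Fin r => G j.castSucc).subschemeι (LefPen.hypIdeal (G (Fin.last r)))).trans ?_
  rw [Scheme.IdealSheafData.ker_subschemeι, ciIdeal_eq_sup]

end Groth.PnCI
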